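import Groth.Agent.Lib.ZClos5.Point
import Groth.Agent.Lib.WeakAss18.Iso

/-!
# The locus where `F → H⁰(F)` is bijective
-/

set_option autoImplicit false
set_option backward.isDefEq.respectTransparency false

universe u

open CategoryTheory CategoryTheory.Limits AlgebraicGeometry TopologicalSpace Opposite

namespace Groth.Agent.ZClos5

open Groth.Agent Groth.Agent.M1 Groth.Agent.WA

variable {X : Scheme.{u}}

theorem bijective_stalk_iff {F G : X.Modules} (φ : F ⟶ G) (x : X) :
    Function.Bijective ((stalkAb x).map φ) ↔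
      x ∉ CohB1.support (kernel φ) ∧ x ∉ CohB1.support (cokernel φ) := by
  have hk := (exact_iff_stalk_eq_zero (ShortComplex.mk (kernel.ι φ) φ (kernel.condition φ))).1
    (ShortComplex.exact_kernel φ) x
  have hc := (exact_iff_stalk_eq_zero (ShortComplex.mk φ (cokernel.π φ) (cokernel.condition φ))).1
    (ShortComplex.exact_cokernel φ) x
  have hi : Function.Injective ((stalkAb x).map (kernel.ι φ)) := (mono_iff_stalk _).1 inferInstance x
  have hp : Function.Surjective ((stalkAb x).map (cokernel.π φ)) := (epi_iff_stalk _).1 inferInstance x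
  simp only [CohB1.support, Set.mem_setOf_eq, not_not]
  constructor
  · intro h
    refine ⟨subsingleton_of_forall_eq 0 fun a => hi ((h.1 ?_).trans (map_zero _).symm),
      subsingleton_of_forall_eq 0 fun b => ?_⟩
    · refine Eq.trans ?_ (map_zero _).symm
      refine (ConcreteCategory.comp_apply ((stalkAb x).map (kernel.ι φ)) ((stalkAb x).map φ) a).symm.trans ?_
      rw [← Functor.map_comp, kernel.condition, Functor.map_zero]
      rfl
    · obtain ⟨c, rfl⟩ := hp b
      obtain ⟨a, rfl⟩ := h.2 c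
      refine (ConcreteCategory.comp_apply ((stalkAb x).map φ) ((stalkAb x).map (cokernel.π φ)) a).symm.trans ?_
      rw [← Functor.map_comp, cokernel.condition, Functor.map_zero]
      rfl
  · rintro ⟨hK, hC⟩
    refine ⟨(injective_iff_map_eq_zero _).2 fun a ha => ?_, fun b => hc b (hC.elim _ _)⟩
    obtain ⟨c, rfl⟩ := hk a ha
    exact (congrArg _ (hK.elim c 0)).trans (map_zero _)

theorem isOpen_bijective_stalk {F G : X.Modules} (hF : Coh.IsCoh F) (hG : Coh.IsCoh G) [IsLocallyNoetherian X]
    (φ : F ⟶ G) : IsOpen {x : X | Function.Bijective ((stalkAb x).map φ)} := by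
  have : {x : X | Function.Bijective ((stalkAb x).map φ)} =
      (CohB1.support (kernel φ))ᶜ ∩ (CohB1.support (cokernel φ))ᶜ := Set.ext fun x => bijective_stalk_iff φ x
  rw [this]
  exact (isClosed_support (isCoh_kernel hF hG.1 φ).2).isOpen_compl.inter
    (isClosed_support (isCoh_cokernel hF.1 hG φ).2).isOpen_compl

variable [IsLocallyNoetherian X] (F : X.Modules) (hF : Coh.IsCoh F) (Z : Set X) (hZ : StableUnderSpecialization Z)

omit [IsLocallyNoetherian X] in
theorem stableUnderSpecialization_dimGe (n : ℕ) : StableUnderSpecialization (ZClos.dimGe X n) := by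
  intro x y h hx
  refine le_trans (show (n : WithBot ℕ∞) ≤ ringKrullDim (X.presheaf.stalk x) from hx) ?_
  rw [ringKrullDim_stalk_eq_coheight, ringKrullDim_stalk_eq_coheight]
  exact_mod_cast Order.coheight_anti (Scheme.le_iff_specializes.2 h)

include hF hZ in
theorem closd_restrict_iff_depth (U : X.Opens) :
    ZClos.IsZClosed (U.ι.base ⁻¹' Z) ((Scheme.Modules.restrictFunctor U.ι).obj F) ↔
      ∀ x ∈ U, x ∈ Z → (2 : ℕ∞) ≤ LocCoh.depth (X.presheaf.stalk x) (F.presheaf.stalk x) := by
  rw [isZClosed_iff, closd_iff_depth _ (DPerf.isCoh_restrict hF U.ι) _ (hZ.preimage U.ι.continuous)]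
  constructor
  · intro h x hx hxZ
    have h1 := h (⟨x, hx⟩ : (U : Scheme.{u})) hxZ
    rw [← LocCohZQ.depth_restrict F U] at h1
    exact h1
  · intro h y hy
    rw [← LocCohZQ.depth_restrict F U]
    exact h (U.ι y) y.2 hy

include hF in
theorem supportDim_stalk (hsupp : ∀ x : X, Nontrivial (F.presheaf.stalk x)) (x : X) :
    Module.supportDim (X.presheaf.stalk x) (F.presheaf.stalk x) = ringKrullDim (X.presheaf.stalk x) := by
  haveI := hF.1
  obtain ⟨V, hV, hxV, -⟩ := exists_isAffineOpen_mem_and_subset (x := x) (U := (⊤ : X.Opens)) trivial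
  haveI := M1.finite_stalk hF.1 hF.2 x
  have hfull : Module.support (X.presheaf.stalk x) (F.presheaf.stalk x) = Set.univ := by
    refine Set.eq_univ_of_forall fun p => ?_
    by_contra hp
    obtain ⟨c, hc, hcp⟩ : ∃ c : X.presheaf.stalk x, (∀ m : F.presheaf.stalk x, c • m = 0) ∧ c ∉ p.asIdeal := by
      rw [Module.support_eq_zeroLocus, PrimeSpectrum.mem_zeroLocus] at hp
      obtain ⟨c, hc, hcp⟩ := Set.not_subset.1 hp
      exact ⟨c, Module.mem_annihilator.1 hc, hcp⟩
    let q : PrimeSpectrum Γ(X, V) := ⟨p.asIdeal.comap (X.presheaf.germ V x hxV).hom, inferInstance⟩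
    have hzV : hV.fromSpec q ∈ V := by
      have : hV.fromSpec q ∈ Set.range hV.fromSpec := ⟨_, rfl⟩
      rwa [hV.range_fromSpec] at this
    have hzq : hV.primeIdealOf ⟨_, hzV⟩ = q :=
      hV.fromSpec.isOpenEmbedding.injective (hV.fromSpec_primeIdealOf _)
    have hzx : hV.fromSpec q ⤳ x := by
      refine specializes_of_isUnit hV hxV hzV fun a ha => (M1.isUnit_germ_iff hV hzV a).2 ?_
      rw [hzq]
      exact fun h' => p.2.ne_top (Ideal.eq_top_of_isUnit_mem _ h' ha)
    haveI := hsupp (hV.fromSpec q)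
    refine not_subsingleton (F.presheaf.stalk (hV.fromSpec q)) (subsingleton_of_forall_eq 0 fun y => ?_)
    obtain ⟨r, m, hr, hm⟩ := M1.exists_germ_smul_eq F hV hzV y
    letI := TopCat.Presheaf.algebra_section_stalk X.presheaf (⟨x, hxV⟩ : V)
    haveI := hV.isLocalization_stalk ⟨x, hxV⟩
    obtain ⟨⟨a, s₀⟩, ha⟩ := IsLocalization.surj (hV.primeIdealOf ⟨x, hxV⟩).asIdeal.primeCompl c
    let s : Γ(X, V) := s₀
    have hs : IsUnit (X.presheaf.germ V x hxV s) := (M1.isUnit_germ_iff hV hxV s).2 s₀.2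
    have hsc : X.presheaf.germ V x hxV s * c = X.presheaf.germ V x hxV a := (mul_comm _ _).trans ha
    have h0 : F.presheaf.germ V x hxV (a • m) = 0 := by
      rw [M1.germ_smul, ← hsc, mul_smul, hc, smul_zero]
    obtain ⟨t, ht, ht0⟩ := M1.exists_smul_eq_zero_of_germ_eq_zero F hV hxV _ h0
    have hzm : F.presheaf.germ V (hV.fromSpec q) hzV m = 0 := by
      have h1 := congrArg (F.presheaf.germ V (hV.fromSpec q) hzV) ht0
      rw [map_zero, smul_smul, M1.germ_smul] at h1
      refine ((M1.isUnit_germ_iff hV hzV (t * a)).2 ?_).smul_eq_zero.mp h1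
      rw [hzq]
      show X.presheaf.germ V x hxV (t * a) ∉ p.asIdeal
      rw [map_mul, ← hsc]
      intro hmem
      rcases p.2.mem_or_mem hmem with h' | h'
      · exact p.2.ne_top (Ideal.eq_top_of_isUnit_mem _ h' ht)
      · rcases p.2.mem_or_mem h' with h'' | h''
        · exact p.2.ne_top (Ideal.eq_top_of_isUnit_mem _ h'' hs)
        · exact hcp h''
    rw [hzm] at hm
    exact hr.smul_eq_zero.mp hm
  rw [Module.supportDim, hfull]
  exact Order.krullDim_eq_of_orderIso (OrderIso.Set.univ)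

include hF in
theorem one_le_depth_of_dim (hass : ∀ x ∈ AssSch.Ass F, ringKrullDim (X.presheaf.stalk x) ≠ 1) (x : X)
    (h : ringKrullDim (X.presheaf.stalk x) = 1) :
    (1 : ℕ∞) ≤ LocCoh.depth (X.presheaf.stalk x) (F.presheaf.stalk x) :=
  (one_le_depth_iff F hF x).2 fun hx => hass x hx h

omit [IsLocallyNoetherian X] in
theorem ringKrullDim_cases (x : X) (hx : x ∉ ZClos.dimGe X 2) :
    ringKrullDim (X.presheaf.stalk x) = 0 ∨ ringKrullDim (X.presheaf.stalk x) = 1 := by
  have h0 : (0 : WithBot ℕ∞) ≤ ringKrullDim (X.presheaf.stalk x) := ringKrullDim_nonneg_of_nontrivial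
  simp only [ZClos.dimGe, Set.mem_setOf_eq, not_le] at hx
  generalize ringKrullDim (X.presheaf.stalk x) = d at h0 hx
  induction d using WithBot.recBotCoe with
  | bot => exact absurd h0 (by simp)
  | coe d =>
    induction d using ENat.recTopCoe with
    | top => exact absurd hx (by simp)
    | coe d =>
      have : d < 2 := ENat.natCast_lt_natCast.1 (WithBot.coe_lt_coe.1 (show ((d : ℕ∞) : WithBot ℕ∞) < (((2 : ℕ) : ℕ∞) : WithBot ℕ∞) from hx))
      interval_cases d
      · exact Or.inl rfl
      · exact Or.inr rfl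

include hF hZ in
theorem isOpen_depth_locus (hH : Coh.IsCoh ((ZClos.H0 Z).obj F)) :
    IsOpen {x : X | ∀ x' : X, x' ⤳ x → x' ∈ Z →
        (2 : ℕ∞) ≤ LocCoh.depth (X.presheaf.stalk x') (F.presheaf.stalk x')} := by
  have e : {x : X | ∀ x' : X, x' ⤳ x → x' ∈ Z →
      (2 : ℕ∞) ≤ LocCoh.depth (X.presheaf.stalk x') (F.presheaf.stalk x')} =
      {x : X | Function.Bijective ((stalkAb x).map (ZClos.rhoApp Z F))} :=
    Set.ext fun x => ⟨fun h => isZClosedAt_of_depth F hF Z hZ x h,
      fun h x' hx' hZ' => two_le_depth_of_isZClosedAt F hF Z hZ x h x' hx' hZ'⟩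
  rw [e]
  exact isOpen_bijective_stalk hF hH (ZClos.rhoApp Z F)

end Groth.Agent.ZClos5
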