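import Mathlib.LinearAlgebra.TensorProduct.Pi
import Mathlib.RingTheory.Flat.Basic
import Mathlib.RingTheory.IsTensorProduct

/-!
# Flat base change of the two conditions describing sections off `V(g_i)`
-/

set_option autoImplicit false

universe u

open TensorProduct

namespace Groth.Agent.ZClos5

variable {A B M N : Type u} [CommRing A] [CommRing B] [Algebra A B] [AddCommGroup M] [Module A M]
  [AddCommGroup N] [Module A N] [Module B N] [IsScalarTower A B N]

/-- `m ↦ (g_i • m)` -/
def phiMap (P : Type u) [AddCommGroup P] [Module A P] {ι : Type u} (g : ι → A) : P →ₗ[A] (ι → P) :=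
  LinearMap.pi fun i => LinearMap.lsmul A P (g i)

/-- `(m_i) ↦ (g_j • m_i - g_i • m_j)` -/
def dMap (P : Type u) [AddCommGroup P] [Module A P] {ι : Type u} (g : ι → A) : (ι → P) →ₗ[A] (ι × ι → P) :=
  LinearMap.pi fun p => (g p.2) • LinearMap.proj p.1 - (g p.1) • LinearMap.proj p.2

variable [Module.Flat A B] {l : M →ₗ[A] N} (bc : IsBaseChange B l) {ι : Type u} [Finite ι] (g : ι → A)
include bc

theorem phiMap_injective_baseChange (h : Function.Injective (phiMap M g)) : Function.Injective (phiMap N g) := by
  classical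
  cases nonempty_fintype ι
  let e := bc.equiv.restrictScalars A
  let e' := (piRight A A B (fun _ : ι => M)).trans (LinearEquiv.piCongrRight fun _ => e)
  have hcomm : ∀ t, e' ((phiMap M g).lTensor B t) = phiMap N g (e t) := fun t => by
    induction t with
    | zero => simp only [map_zero]
    | add a b ha hb => simp only [map_add, ha, hb]
    | tmul b m =>
      funext i
      show bc.equiv (b ⊗ₜ[A] (g i • m)) = g i • bc.equiv (b ⊗ₜ[A] m)
      rw [IsBaseChange.equiv_tmul, IsBaseChange.equiv_tmul, map_smul, smul_comm]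
  intro a b hab
  obtain ⟨a, rfl⟩ := e.surjective a
  obtain ⟨b, rfl⟩ := e.surjective b
  rw [← hcomm, ← hcomm] at hab
  rw [Module.Flat.lTensor_preserves_injective_linearMap (phiMap M g) h (e'.injective hab)]

theorem exact_baseChange (h : Function.Exact (phiMap M g) (dMap M g)) :
    Function.Exact (phiMap N g) (dMap N g) := by
  classical
  cases nonempty_fintype ι
  let e := bc.equiv.restrictScalars A
  let e' := (piRight A A B (fun _ : ι => M)).trans (LinearEquiv.piCongrRight fun _ => e)
  let e'' := (piRight A A B (fun _ : ι × ι => M)).trans (LinearEquiv.piCongrRight fun _ => e)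
  have hcomm : ∀ t, e' ((phiMap M g).lTensor B t) = phiMap N g (e t) := fun t => by
    induction t with
    | zero => simp only [map_zero]
    | add a b ha hb => simp only [map_add, ha, hb]
    | tmul b m =>
      funext i
      show bc.equiv (b ⊗ₜ[A] (g i • m)) = g i • bc.equiv (b ⊗ₜ[A] m)
      rw [IsBaseChange.equiv_tmul, IsBaseChange.equiv_tmul, map_smul, smul_comm]
  have hcomm' : ∀ t, e'' ((dMap M g).lTensor B t) = dMap N g (e' t) := fun t => by
    induction t with
    | zero => simp only [map_zero]
    | add a b ha hb => simp only [map_add, ha, hb]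
    | tmul b m =>
      funext p
      show bc.equiv (b ⊗ₜ[A] (g p.2 • m p.1 - g p.1 • m p.2)) =
        g p.2 • bc.equiv (b ⊗ₜ[A] m p.1) - g p.1 • bc.equiv (b ⊗ₜ[A] m p.2)
      rw [IsBaseChange.equiv_tmul, IsBaseChange.equiv_tmul, IsBaseChange.equiv_tmul, map_sub, map_smul, map_smul,
        smul_sub, smul_comm, smul_comm (g p.1)]
  have hex := Module.Flat.lTensor_exact B h
  intro y
  obtain ⟨t, rfl⟩ := e'.surjective y
  rw [← hcomm', e''.map_eq_zero_iff, hex t]
  constructor
  · rintro ⟨s, rfl⟩
    exact ⟨e s, (hcomm s).symm⟩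
  · rintro ⟨n, hn⟩
    obtain ⟨s, rfl⟩ := e.surjective n
    exact ⟨s, e'.injective ((hcomm s).trans hn)⟩

end Groth.Agent.ZClos5
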