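import Groth.Agent.Lib.ZClos5.Support
import Groth.Agent.Lib.ZClos5.FlatMod
import Groth.Agent.Lib.PullSect12.Basic
import Groth.Agent.Lib.FormalH7.Nbhd

/-!
# Flat pullback of `Z`-closed modules
-/

set_option autoImplicit false
set_option backward.isDefEq.respectTransparency false

universe u

open CategoryTheory CategoryTheory.Limits AlgebraicGeometry TopologicalSpace Opposite TensorProduct

namespace Groth.Agent.ZClos5

open Groth.Agent Groth.Agent.M1

variable {X Y : Scheme.{u}} (f : Y ⟶ X)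

/-- The pullback of a morphism is bijective on the stalk at `y` if the morphism is so at `f y`. -/
theorem bijective_stalk_pullback {F G : X.Modules} (φ : F ⟶ G) (y : Y)
    (h : Function.Bijective ((TopCat.Presheaf.stalkFunctor (C := Ab.{u}) (f y)).map φ.mapPresheaf)) :
    Function.Bijective ((TopCat.Presheaf.stalkFunctor (C := Ab.{u}) y).map
      ((Scheme.Modules.pullback f).map φ).mapPresheaf) := by
  let ψ : (F.presheaf.stalk (f y) : Type u) ≃ₗ[X.presheaf.stalk (f y)] (G.presheaf.stalk (f y) : Type u) :=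
    LinearEquiv.ofBijective
      { toFun := PullBC11.stk φ (f y)
        map_add' := map_add _
        map_smul' := PullBC11.stalk_map_smul φ } h
  let e : M2.BC f y F ≃ₗ[X.presheaf.stalk (f y)] M2.BC f y G :=
    TensorProduct.congr (LinearEquiv.refl _ _) ψ
  have key : ∀ t : M2.BC f y F, PullBC11.stk ((Scheme.Modules.pullback f).map φ) y (M2.pullStalkEquiv f y F t) =
      M2.pullStalkEquiv f y G (e t) := by
    intro t
    induction t using TensorProduct.induction_on with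
    | zero => simp only [map_zero]
    | add a b ha hb => simp only [map_add, ha, hb]
    | tmul c m =>
      obtain ⟨U, hU, s, rfl⟩ := F.presheaf.exists_germ_eq m
      have h1 : ψ (F.presheaf.germ U (f y) hU s) = G.presheaf.germ U (f y) hU (φ.app U s) :=
        TopCat.Presheaf.stalkFunctor_map_germ_apply U (f y) hU φ.mapPresheaf s
      have h2 : ∀ (M : X.Modules) (a : (M.presheaf.stalk (f y) : Type u)),
          (c ⊗ₜ[X.presheaf.stalk (f y)] a : M2.BC f y M) = c • ((1 : Y.presheaf.stalk y) ⊗ₜ a) := fun M a => by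
        rw [TensorProduct.smul_tmul', smul_eq_mul, mul_one]
      show PullBC11.stk _ y (M2.pullStalkEquiv f y F (c ⊗ₜ _)) = M2.pullStalkEquiv f y G (c ⊗ₜ ψ _)
      rw [h1, h2, h2, (M2.pullStalkEquiv f y F).map_smul, (M2.pullStalkEquiv f y G).map_smul, PullBC11.stalk_map_smul, M2.pullStalkEquiv_tmul, M2.pullStalkEquiv_tmul,
        ← FormalH7.pullSec_naturality]
      exact congrArg (c • ·) (TopCat.Presheaf.stalkFunctor_map_germ_apply (f ⁻¹ᵁ U) y hU
        ((Scheme.Modules.pullback f).map φ).mapPresheaf _)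
  have hcomp : Function.Bijective (⇑(PullBC11.stk ((Scheme.Modules.pullback f).map φ) y) ∘
      ⇑(M2.pullStalkEquiv f y F)) := by
    rw [show ⇑(PullBC11.stk ((Scheme.Modules.pullback f).map φ) y) ∘ ⇑(M2.pullStalkEquiv f y F) =
      ⇑(M2.pullStalkEquiv f y G) ∘ ⇑e from funext key]
    exact (M2.pullStalkEquiv f y G).bijective.comp e.bijective
  exact (Function.Bijective.of_comp_iff _ (M2.pullStalkEquiv f y F).bijective).1 hcomp

variable [Flat f] (G : X.Modules) [Coh.IsQCoh G]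

/-- Unique extension of sections across a closed subset survives flat pullback, over affine pieces. -/
theorem bijective_mres_pullback [IsLocallyNoetherian X] (U : X.Opens)
    (hG : ∀ O : X.Opens, Function.Bijective (mres G (inf_le_left : O ⊓ U ≤ O)))
    {W : X.Opens} (hW : IsAffineOpen W) {V : Y.Opens} (hV : IsAffineOpen V) (e : V ≤ f ⁻¹ᵁ W) :
    Function.Bijective (mres ((Scheme.Modules.pullback f).obj G) (inf_le_left : V ⊓ f ⁻¹ᵁ U ≤ V)) := by
  classical
  let G' := (Scheme.Modules.pullback f).obj G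
  haveI : Coh.IsQCoh G' := M1.isQCoh_pullback f inferInstance
  haveI : IsNoetherianRing Γ(X, W) := IsLocallyNoetherian.component_noetherian ⟨W, hW⟩
  obtain ⟨s, hs⟩ : ∃ s : Finset Γ(X, W), (W ⊓ U : X.Opens) = ⨆ g : s, X.basicOpen g.1 := by
    have hc : IsCompact ((W ⊓ U : X.Opens) : Set X) := by
      haveI : TopologicalSpace.NoetherianSpace W := noetherianSpace_of_isAffineOpen W hW
      have h := (TopologicalSpace.NoetherianSpace.isCompact (W.ι ⁻¹' (U : Set X))).image W.ι.continuous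
      rwa [Set.image_preimage_eq_inter_range, Scheme.Opens.range_ι, Set.inter_comm] at h
    have hcov : ((W ⊓ U : X.Opens) : Set X) ⊆ ⋃ g : {g : Γ(X, W) // X.basicOpen g ≤ U}, (X.basicOpen g.1 : Set X) := by
      intro x hx
      obtain ⟨g, hgle, hxg⟩ := hW.exists_basicOpen_le ⟨x, hx.2⟩ hx.1
      exact Set.mem_iUnion.2 ⟨⟨g, hgle⟩, hxg⟩
    obtain ⟨t, ht⟩ := hc.elim_finite_subcover
      (fun g : {g : Γ(X, W) // X.basicOpen g ≤ U} => (X.basicOpen g.1 : Set X)) (fun g => (X.basicOpen g.1).isOpen) hcov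
    refine ⟨t.image Subtype.val, le_antisymm (fun x hx => ?_) (iSup_le fun g => le_inf (X.basicOpen_le g.1) ?_)⟩
    · obtain ⟨g, hg, hxg⟩ := Set.mem_iUnion₂.1 (ht hx)
      exact Opens.mem_iSup.2 ⟨⟨g.1, Finset.mem_image_of_mem _ hg⟩, hxg⟩
    · obtain ⟨g', -, hg'⟩ := Finset.mem_image.1 g.2
      exact hg' ▸ g'.2
  have hD : ∀ i : s, X.basicOpen i.1 ≤ W ⊓ U := fun i => hs ▸ le_iSup (fun g : s => X.basicOpen g.1) i
  letI := (f.appLE W V e).hom.toAlgebra
  letI := PullBC11.baseModule (g := f) G' e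
  haveI : IsScalarTower Γ(X, W) Γ(Y, V) Γ(G', V) := IsScalarTower.of_algebraMap_smul fun _ _ => rfl
  haveI : Module.Flat Γ(X, W) Γ(Y, V) := f.flat_appLE hW hV e
  have bc : IsBaseChange Γ(Y, V) (PullBC11.sect ((Scheme.Modules.pullbackPushforwardAdjunction f).unit.app G) e) :=
    PullSect12.isBC_unit f G hW hV e
  let hh : s → Γ(Y, V) := fun i => f.appLE W V e i.1
  have hDh : ∀ i : s, Y.basicOpen (hh i) ≤ V ⊓ f ⁻¹ᵁ U := fun i => by
    show Y.basicOpen (f.appLE W V e i.1) ≤ _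
    rw [Scheme.basicOpen_appLE]
    exact inf_le_inf_left V (f.preimage_mono ((hD i).trans inf_le_right))
  have hcovW : W ⊓ U ≤ ⨆ i : s, X.basicOpen i.1 := hs.le
  have hcovV : V ⊓ f ⁻¹ᵁ U ≤ ⨆ i : s, Y.basicOpen (hh i) := fun y hy => by
    obtain ⟨i, hi⟩ := Opens.mem_iSup.1 (hcovW (show f y ∈ W ⊓ U from ⟨e hy.1, hy.2⟩))
    refine Opens.mem_iSup.2 ⟨i, ?_⟩
    show y ∈ Y.basicOpen (f.appLE W V e i.1)
    rw [Scheme.basicOpen_appLE]
    exact ⟨hy.1, hi⟩
  have hunit : ∀ (i : s) (k : ℕ), IsUnit (ores (X.basicOpen_le i.1) i.1 ^ k) := fun i k =>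
    IsUnit.pow k (RingedSpace.isUnit_res_basicOpen X.toRingedSpace i.1)
  have hunit' : ∀ (i : s) (k : ℕ), IsUnit (ores (Y.basicOpen_le (hh i)) (hh i) ^ k) := fun i k =>
    IsUnit.pow k (RingedSpace.isUnit_res_basicOpen Y.toRingedSpace (hh i))
  have hW0 : ∀ m : Γ(G, W), (∀ i : s, mres G (X.basicOpen_le i.1) m = 0) → m = 0 := fun m hm => by
    refine (hG W).1 ?_
    rw [map_zero]
    refine M1.modules_eq_of_locally_eq G _ (fun i : s => X.basicOpen i.1) hD hcovW _ _ fun i => ?_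
    rw [mres_mres, hm, map_zero]
  have hker : ∀ k : ℕ, Function.Injective (phiMap Γ(G, W) fun i : s => i.1 ^ k) := fun k => by
    refine (injective_iff_map_eq_zero _).2 fun m hm => hW0 m fun i => ?_
    have h1 : i.1 ^ k • m = 0 := congrFun hm i
    have h2 := congrArg (mres G (X.basicOpen_le i.1)) h1
    rw [mres_smul, map_zero, map_pow] at h2
    exact (hunit i k).smul_eq_zero.1 h2
  have hex : ∀ k : ℕ, Function.Exact (phiMap Γ(G, W) fun i : s => i.1 ^ k) (dMap Γ(G, W) fun i : s => i.1 ^ k) := by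
    intro k m
    constructor
    · intro hm
      have hm' : ∀ i j : s, j.1 ^ k • m i = i.1 ^ k • m j := fun i j => sub_eq_zero.1 (congrFun hm (i, j))
      let uu : ∀ i : s, Γ(G, X.basicOpen i.1) := fun i =>
        ((hunit i k).unit⁻¹ : Γ(X, X.basicOpen i.1)ˣ).1 • mres G (X.basicOpen_le i.1) (m i)
      have huu : ∀ i : s, ores (X.basicOpen_le i.1) i.1 ^ k • uu i = mres G (X.basicOpen_le i.1) (m i) := fun i => by
        show ores (X.basicOpen_le i.1) i.1 ^ k • ((hunit i k).unit⁻¹ : Γ(X, X.basicOpen i.1)ˣ).1 • _ = _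
        rw [smul_smul, IsUnit.mul_val_inv, one_smul]
      obtain ⟨u, hu, -⟩ := TopCat.Sheaf.existsUnique_gluing' (F := ⟨_, G.isSheaf⟩) (fun i : s => X.basicOpen i.1)
        (W ⊓ U) (fun i => homOfLE (hD i)) hcovW uu fun i j => by
          show mres G inf_le_left (uu i) = mres G inf_le_right (uu j)
          have hi := congrArg (mres G (inf_le_left : X.basicOpen i.1 ⊓ X.basicOpen j.1 ≤ _)) (huu i)
          have hj := congrArg (mres G (inf_le_right : X.basicOpen i.1 ⊓ X.basicOpen j.1 ≤ _)) (huu j)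
          rw [mres_smul, mres_mres, map_pow, ores_ores] at hi hj
          have h3 := congrArg (mres G (inf_le_left.trans (X.basicOpen_le i.1) :
            X.basicOpen i.1 ⊓ X.basicOpen j.1 ≤ W)) (hm' i j)
          rw [mres_smul, mres_smul, map_pow, map_pow, ← hi, ← hj, smul_smul, smul_smul, mul_comm] at h3
          refine (IsUnit.mul ?_ ?_).smul_left_cancel.1 h3
          · have := (hunit i k).map (ores (inf_le_left : X.basicOpen i.1 ⊓ X.basicOpen j.1 ≤ _)).hom
            rwa [map_pow, show (ores inf_le_left).hom (ores (X.basicOpen_le i.1) i.1) = _ from ores_ores _ _ _] at this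
          · have := (hunit j k).map (ores (inf_le_right : X.basicOpen i.1 ⊓ X.basicOpen j.1 ≤ _)).hom
            rwa [map_pow, show (ores inf_le_right).hom (ores (X.basicOpen_le j.1) j.1) = _ from ores_ores _ _ _] at this
      obtain ⟨n, rfl⟩ := (hG W).2 u
      refine ⟨n, funext fun i => ?_⟩
      show i.1 ^ k • n = m i
      refine sub_eq_zero.1 (hW0 _ fun j => ?_)
      have hnj : mres G (X.basicOpen_le j.1) n = uu j :=
        (mres_mres G inf_le_left (hD j) n).symm.trans (hu j)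
      have h3 := congrArg (mres G (X.basicOpen_le j.1)) (hm' i j)
      rw [mres_smul, mres_smul, map_pow, map_pow, ← huu j, ← hnj, smul_comm] at h3
      rw [map_sub, mres_smul, map_pow, sub_eq_zero]
      exact ((hunit j k).smul_left_cancel.1 h3).symm
    · rintro ⟨n, rfl⟩
      funext p
      show p.2.1 ^ k • (p.1.1 ^ k • n) - p.1.1 ^ k • (p.2.1 ^ k • n) = 0
      rw [smul_comm, sub_self]
  have hker' : ∀ (k : ℕ) (n : Γ(G', V)), (∀ i : s, hh i ^ k • n = 0) → n = 0 := fun k n hn => by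
    refine (injective_iff_map_eq_zero _).1 (phiMap_injective_baseChange bc _ (hker k)) n (funext fun i => ?_)
    show f.appLE W V e (i.1 ^ k) • n = 0
    rw [map_pow]
    exact hn i
  have hex' : ∀ (k : ℕ) (m : s → Γ(G', V)), (∀ i j : s, hh j ^ k • m i = hh i ^ k • m j) →
      ∃ n, ∀ i : s, hh i ^ k • n = m i := fun k m hm => by
    obtain ⟨n, hn⟩ := (exact_baseChange bc _ (hex k) m).1 (funext fun p => by
      show f.appLE W V e (p.2.1 ^ k) • m p.1 - f.appLE W V e (p.1.1 ^ k) • m p.2 = 0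
      rw [map_pow, map_pow, sub_eq_zero]
      exact hm p.1 p.2)
    refine ⟨n, fun i => ?_⟩
    rw [← map_pow]
    exact congrFun hn i
  refine ⟨(injective_iff_map_eq_zero _).2 fun a ha => ?_, fun t => ?_⟩
  · have ha' : ∀ i : s, ∃ k, hh i ^ k • a = 0 := fun i =>
      exists_pow_smul_eq_zero_affine G' hV (hh i) a (by
        rw [← mres_mres G' (inf_le_left : V ⊓ f ⁻¹ᵁ U ≤ V) (hDh i)]
        exact (congrArg _ ha).trans (map_zero _))
    choose k hk using ha'
    refine hker' (Finset.univ.sup k) a fun i => ?_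
    obtain ⟨d, hd⟩ := Nat.exists_eq_add_of_le (Finset.le_sup (f := k) (Finset.mem_univ i))
    rw [hd, pow_add, mul_comm, mul_smul, hk, smul_zero]
  · have ht : ∀ i : s, ∃ (k : ℕ) (t₀ : Γ(G', V)),
        mres G' (Y.basicOpen_le (hh i)) t₀ = ores (Y.basicOpen_le (hh i)) (hh i) ^ k • mres G' (hDh i) t := fun i =>
      exists_pow_smul_eq_res_affine G' hV (hh i) _
    choose k₀ t₀ ht₀ using ht
    obtain ⟨k, t₁, ht₁⟩ : ∃ (k : ℕ) (t₁ : s → Γ(G', V)), ∀ i : s, mres G' (Y.basicOpen_le (hh i)) (t₁ i) =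
        ores (Y.basicOpen_le (hh i)) (hh i) ^ k • mres G' (hDh i) t :=
      ⟨Finset.univ.sup k₀, fun i => hh i ^ (Finset.univ.sup k₀ - k₀ i) • t₀ i, fun i => by
        rw [mres_smul, map_pow, ht₀, smul_smul, ← pow_add,
          Nat.sub_add_cancel (Finset.le_sup (f := k₀) (Finset.mem_univ i))]⟩
    have hdiff : ∀ i j : s, ∃ l, (hh i * hh j) ^ l • (hh j ^ k • t₁ i - hh i ^ k • t₁ j) = 0 := fun i j => by
      refine exists_pow_smul_eq_zero_affine G' hV (hh i * hh j) _ ?_
      have hi : Y.basicOpen (hh i * hh j) ≤ Y.basicOpen (hh i) := by rw [Scheme.basicOpen_mul]; exact inf_le_left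
      have hj : Y.basicOpen (hh i * hh j) ≤ Y.basicOpen (hh j) := by rw [Scheme.basicOpen_mul]; exact inf_le_right
      have h1 := congrArg (mres G' hi) (ht₁ i)
      have h2 := congrArg (mres G' hj) (ht₁ j)
      rw [mres_smul, mres_mres, mres_mres, map_pow, ores_ores] at h1 h2
      rw [map_sub, mres_smul, mres_smul, map_pow, map_pow, h1, h2, smul_comm, sub_self]
    choose l hl using hdiff
    let L := Finset.univ.sup fun p : s × s => l p.1 p.2
    have hL : ∀ i j : s, hh j ^ (k + L) • (hh i ^ L • t₁ i) = hh i ^ (k + L) • (hh j ^ L • t₁ j) := fun i j => by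
      obtain ⟨d, hd⟩ := Nat.exists_eq_add_of_le
        (Finset.le_sup (f := fun p : s × s => l p.1 p.2) (Finset.mem_univ (i, j)))
      have h0 : (hh i * hh j) ^ L • (hh j ^ k • t₁ i - hh i ^ k • t₁ j) = 0 := by
        rw [show L = l i j + d from hd, pow_add, mul_comm, mul_smul, hl, smul_zero]
      rw [smul_sub, sub_eq_zero, smul_smul, smul_smul] at h0
      rw [smul_smul, smul_smul]
      refine (congrArg (· • t₁ i) ?_).trans (h0.trans (congrArg (· • t₁ j) ?_)) <;> ring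
    obtain ⟨n, hn⟩ := hex' (k + L) _ hL
    refine ⟨n, M1.modules_eq_of_locally_eq G' _ (fun i : s => Y.basicOpen (hh i)) hDh hcovV _ _ fun i => ?_⟩
    have h1 := congrArg (mres G' (Y.basicOpen_le (hh i))) (hn i)
    rw [mres_smul, mres_smul, map_pow, map_pow, ht₁, smul_smul, ← pow_add, add_comm L] at h1
    rw [mres_mres]
    exact (hunit' i (k + L)).smul_left_cancel.1 h1

variable [IsLocallyNoetherian X] [IsLocallyNoetherian Y]

/-- Flat pullback of a `Z`-closed module is `f⁻¹Z`-closed. -/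
theorem closd_pullback (Z : Set X) (hZ : StableUnderSpecialization Z) (hG : Closd Z G) :
    Closd (f.base ⁻¹' Z) ((Scheme.Modules.pullback f).obj G) := by
  classical
  let G' := (Scheme.Modules.pullback f).obj G
  refine closd_of_basis _ _ (fun V => IsAffineOpen V ∧ ∃ W : X.Opens, IsAffineOpen W ∧ V ≤ f ⁻¹ᵁ W)
    (fun V y hy => ?_) fun T' V hV => ?_
  · obtain ⟨W, hW, hyW, -⟩ := exists_isAffineOpen_mem_and_subset (x := f y) (U := (⊤ : X.Opens)) trivial
    obtain ⟨V', hV', hyV', hle⟩ := exists_isAffineOpen_mem_and_subset (x := y) (U := V ⊓ f ⁻¹ᵁ W) ⟨hy, hyW⟩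
    exact ⟨V', ⟨hV', W, hW, fun a ha => (hle ha).2⟩, hyV', fun a ha => (hle ha).1⟩
  obtain ⟨hVa, W, hW, hVW⟩ := hV
  haveI : IsNoetherianRing Γ(Y, V) := IsLocallyNoetherian.component_noetherian ⟨V, hVa⟩
  haveI : TopologicalSpace.NoetherianSpace V := noetherianSpace_of_isAffineOpen V hVa
  -- the images of the generic points of `T' ∩ V`
  let C : Closeds (V : Scheme.{u}) := ⟨V.ι ⁻¹' T'.1, T'.1.isClosed.preimage V.ι.continuous⟩
  obtain ⟨S, hSsub, hS⟩ : ∃ S : Finset Y, (S : Set Y) ⊆ (T'.1 : Set Y) ∧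
      ∀ y ∈ (T'.1 : Set Y), y ∈ V → ∃ η ∈ S, η ⤳ y := by
    obtain ⟨Cs, hCf, hC1, hC2, hC3⟩ :=
      TopologicalSpace.NoetherianSpace.exists_finite_set_isClosed_irreducible C.isClosed
    choose η hη using fun t : Cs => (QuasiSober.sober (α := (V : Scheme.{u})) (hC2 t.1 t.2) (hC1 t.1 t.2))
    haveI := hCf.to_subtype
    haveI := Fintype.ofFinite Cs
    refine ⟨Finset.univ.image fun t => V.ι (η t), fun a ha => ?_, fun y hy hyV => ?_⟩
    · obtain ⟨t, -, rfl⟩ := Finset.mem_image.1 ha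
      exact (hC3.ge ⟨t.1, t.2, (hη t).mem⟩ : η t ∈ (C : Set _))
    · obtain ⟨t, ht, hyt⟩ : (⟨y, hyV⟩ : (V : Scheme.{u})) ∈ ⋃₀ Cs := hC3 ▸ hy
      exact ⟨_, Finset.mem_image_of_mem _ (Finset.mem_univ ⟨t, ht⟩),
        ((hη ⟨t, ht⟩).specializes hyt).map V.ι.continuous⟩
  let T : ZClos.Cl Z := ⟨⟨⋃ η ∈ S, closure {f η}, isClosed_biUnion_finset fun η _ => isClosed_closure⟩,
    fun x hx => by
      obtain ⟨η, hη, hx⟩ := Set.mem_iUnion₂.1 hx
      exact hZ (specializes_iff_mem_closure.2 hx) (T'.2 (hSsub hη))⟩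
  have hle : V ⊓ f ⁻¹ᵁ T.U ≤ V ⊓ T'.U := fun y hy => ⟨hy.1, fun h => by
    obtain ⟨η, hη, hsp⟩ := hS y h hy.1
    exact mem_U.1 hy.2 (Set.mem_iUnion₂.2 ⟨η, hη, specializes_iff_mem_closure.1 (hsp.map f.continuous)⟩)⟩
  have hb {W : X.Opens} (hW : IsAffineOpen W) {V : Y.Opens} (hV : IsAffineOpen V) (e : V ≤ f ⁻¹ᵁ W) :
      Function.Bijective (mres G' (inf_le_left : V ⊓ f ⁻¹ᵁ T.U ≤ V)) :=
    bijective_mres_pullback f G T.U (fun O => hG T O) hW hV e
  have h1 : ⇑(mres G' (inf_le_left : V ⊓ f ⁻¹ᵁ T.U ≤ V)) = ⇑(mres G' hle) ∘ ⇑(res _ G' T' V) :=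
    funext fun a => (mres_mres G' _ _ a).symm
  have h2 : Function.Injective (mres G' hle) := by
    refine (injective_iff_map_eq_zero _).2 fun b hb' => ?_
    refine M1.modules_eq_of_locally_eq G' _ (fun O : {O : Y.Opens // IsAffineOpen O ∧ O ≤ V ⊓ T'.U} => O.1)
      (fun O => O.2.2) (fun y hy => ?_) _ _ fun O => ?_
    · obtain ⟨O, hO, hyO, hOle⟩ := exists_isAffineOpen_mem_and_subset (x := y) (U := V ⊓ T'.U) hy
      exact Opens.mem_iSup.2 ⟨⟨O, hO, hOle⟩, hyO⟩
    · rw [map_zero]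
      refine (hb hW O.2.1 (O.2.2.trans (inf_le_left.trans hVW))).1 ?_
      rw [map_zero, mres_mres, ← mres_mres G' hle (inf_le_inf_right _ (O.2.2.trans inf_le_left))]
      exact (congrArg _ hb').trans (map_zero _)
  have hbV := hb hW hVa hVW
  rw [h1] at hbV
  refine ⟨hbV.1.of_comp, fun b => ?_⟩
  obtain ⟨a, ha⟩ := hbV.2 (mres G' hle b)
  exact ⟨a, h2 ha⟩

omit G in
theorem nonempty_iso_pullback_H0 (Z : Set X) (hZ : StableUnderSpecialization Z) (F : X.Modules)
    (hH : Coh.IsQCoh ((ZClos.H0 Z).obj F)) :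
    Nonempty ((Scheme.Modules.pullback f).obj ((ZClos.H0 Z).obj F) ≅
      (ZClos.H0 (f.base ⁻¹' Z)).obj ((Scheme.Modules.pullback f).obj F)) := by
  haveI := hH
  have hZ' : StableUnderSpecialization (f.base ⁻¹' Z) := fun a b hab ha => hZ (hab.map f.continuous) ha
  haveI : IsIso (ZClos.rhoApp (f.base ⁻¹' Z) ((Scheme.Modules.pullback f).obj ((ZClos.H0 Z).obj F))) :=
    (isZClosed_iff _ _).2 (closd_pullback f _ Z hZ ((isZClosed_iff Z _).1 (isZClosed_H0 Z hZ F)))
  haveI := isIso_map (f.base ⁻¹' Z) hZ' ((Scheme.Modules.pullback f).map (ZClos.rhoApp Z F)) fun y hy =>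
    bijective_stalk_pullback f (ZClos.rhoApp Z F) y (bijective_rhoStalk Z hZ F (x := f y) hy)
  exact ⟨asIso (ZClos.rhoApp (f.base ⁻¹' Z) ((Scheme.Modules.pullback f).obj ((ZClos.H0 Z).obj F))) ≪≫
    (asIso ((ZClos.H0 (f.base ⁻¹' Z)).map ((Scheme.Modules.pullback f).map (ZClos.rhoApp Z F)))).symm⟩

end Groth.Agent.ZClos5
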