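import Groth.Prelude.Def_ZClos
import Groth.Agent.Lib.QCoh8.Colim
import Groth.Agent.Lib.ModM1.Affine

/-!
# Sections of the `Z`-closure of a module on a locally Noetherian scheme
-/

set_option autoImplicit false
set_option backward.isDefEq.respectTransparency false

universe u

open CategoryTheory CategoryTheory.Limits AlgebraicGeometry TopologicalSpace Opposite

namespace Groth.Agent.ZClos5

open Groth.Agent Groth.Agent.M1

variable {X : Scheme.{u}}

/-- A section over `V ⊓ U` as a section of `j_*(F|_U)` over `V`. -/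
noncomputable def toPush (F : X.Modules) (U V : X.Opens) : Γ(F, V ⊓ U) ⟶ Γ((ZClos.resPush U).obj F, V) :=
  mres F (show U.ι ''ᵁ U.ι ⁻¹ᵁ V ≤ V ⊓ U by rw [ZClos.ι_image_preimage, inf_comm])

theorem toPush_bijective (F : X.Modules) (U V : X.Opens) : Function.Bijective (toPush F U V) := by
  have h : V ⊓ U ≤ U.ι ''ᵁ U.ι ⁻¹ᵁ V := by rw [ZClos.ι_image_preimage, inf_comm]
  refine Function.bijective_iff_has_inverse.2 ⟨fun s => mres F h s, fun t => ?_, fun s => ?_⟩
  · exact (mres_mres F _ h t).trans (mres_id F _ t)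
  · exact (mres_mres F h _ (s : Γ(F, U.ι ''ᵁ U.ι ⁻¹ᵁ V))).trans (mres_id F _ _)

theorem resPushUnit_eq (F : X.Modules) (U V : X.Opens) (a : Γ(F, V)) :
    ((ZClos.resPushUnit U).app F).app V a = toPush F U V (mres F inf_le_left a) :=
  (mres_mres F _ _ a).symm

theorem resPushMapApp_eq (F : X.Modules) {U U' : X.Opens} (h : U' ≤ U) (V : X.Opens) (t : Γ(F, V ⊓ U)) :
    (ZClos.resPushMapApp h F).app V (toPush F U V t) =
      toPush F U' V (mres F (inf_le_inf_left V h) t) := by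
  rw [ZClos.resPushMapApp_app]
  exact (mres_mres F _ _ t).trans (mres_mres F _ _ t).symm

theorem mres_toPush (F : X.Modules) (U : X.Opens) {V W : X.Opens} (h : W ≤ V) (t : Γ(F, V ⊓ U)) :
    mres ((ZClos.resPush U).obj F) h (toPush F U V t) = toPush F U W (mres F (inf_le_inf_right U h) t) :=
  (mres_mres F _ _ t).trans (mres_mres F _ _ t).symm

theorem map_toPush {F G : X.Modules} (φ : F ⟶ G) (U V : X.Opens) (t : Γ(F, V ⊓ U)) :
    ((ZClos.resPush U).map φ).app V (toPush F U V t) = toPush G U V (φ.app (V ⊓ U) t) :=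
  app_mres φ _ t

variable (Z : Set X) (F : X.Modules)

/-- The section of the closure given by a section off a closed subset of `Z`. -/
noncomputable def ins (T : ZClos.Cl Z) (V : X.Opens) : Γ(F, V ⊓ T.U) ⟶ Γ((ZClos.H0 Z).obj F, V) :=
  toPush F T.U V ≫ (colimit.ι ((ZClos.diagram Z).obj F) T).app V

theorem ins_mono {T T' : ZClos.Cl Z} (h : T ≤ T') (V : X.Opens) (t : Γ(F, V ⊓ T.U)) :
    ins Z F T' V (mres F (inf_le_inf_left V (ZClos.Cl.U_anti h)) t) = ins Z F T V t := by
  show (colimit.ι ((ZClos.diagram Z).obj F) T').app V (toPush F T'.U V _) =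
    (colimit.ι ((ZClos.diagram Z).obj F) T).app V (toPush F T.U V t)
  rw [← resPushMapApp_eq F (ZClos.Cl.U_anti h) V t, ← colimit.w ((ZClos.diagram Z).obj F) (homOfLE h)]
  rfl

theorem mres_ins (T : ZClos.Cl Z) {V W : X.Opens} (h : W ≤ V) (t : Γ(F, V ⊓ T.U)) :
    mres ((ZClos.H0 Z).obj F) h (ins Z F T V t) = ins Z F T W (mres F (inf_le_inf_right T.U h) t) := by
  show mres _ h ((colimit.ι ((ZClos.diagram Z).obj F) T).app V (toPush F T.U V t)) = _
  refine (app_mres (colimit.ι ((ZClos.diagram Z).obj F) T) h _).symm.trans ?_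
  exact congrArg ((colimit.ι ((ZClos.diagram Z).obj F) T).app W) (mres_toPush F T.U h t)

theorem rhoApp_eq (T : ZClos.Cl Z) (V : X.Opens) (a : Γ(F, V)) :
    (ZClos.rhoApp Z F).app V a = ins Z F T V (mres F inf_le_left a) := by
  rw [ZClos.rhoApp_eq Z F T]
  exact congrArg ((colimit.ι ((ZClos.diagram Z).obj F) T).app V) (resPushUnit_eq F T.U V a)

theorem map_ins {G : X.Modules} (φ : F ⟶ G) (T : ZClos.Cl Z) (V : X.Opens) (t : Γ(F, V ⊓ T.U)) :
    ((ZClos.H0 Z).map φ).app V (ins Z F T V t) = ins Z G T V (φ.app (V ⊓ T.U) t) := by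
  show (colimMap ((ZClos.diagram Z).map φ)).app V ((colimit.ι ((ZClos.diagram Z).obj F) T).app V (toPush F T.U V t)) = _
  rw [← comp_app_apply, ι_colimMap, comp_app_apply]
  exact congrArg _ (map_toPush φ T.U V t)

variable [IsLocallyNoetherian X]

theorem exists_ins {V : X.Opens} (hV : IsCompact (V : Set X)) (s : Γ((ZClos.H0 Z).obj F, V)) :
    ∃ (T : ZClos.Cl Z) (t : Γ(F, V ⊓ T.U)), ins Z F T V t = s := by
  obtain ⟨T, w, hw⟩ := QCoh8.sec_rep (colimit.isColimit ((ZClos.diagram Z).obj F)) hV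
    (IsQuasiSeparated.of_quasiSeparatedSpace _) s
  obtain ⟨t, rfl⟩ := (toPush_bijective F T.U V).2 w
  exact ⟨T, t, hw⟩

theorem exists_ins_ge {V : X.Opens} (hV : IsCompact (V : Set X)) (T₀ : ZClos.Cl Z)
    (s : Γ((ZClos.H0 Z).obj F, V)) : ∃ (T : ZClos.Cl Z) (t : Γ(F, V ⊓ T.U)), T₀ ≤ T ∧ ins Z F T V t = s := by
  obtain ⟨T, t, rfl⟩ := exists_ins Z F hV s
  exact ⟨T₀ ⊔ T, _, le_sup_left, ins_mono Z F le_sup_right V t⟩

theorem exists_of_ins_eq_zero {V : X.Opens} (hV : IsCompact (V : Set X)) {T : ZClos.Cl Z}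
    (t : Γ(F, V ⊓ T.U)) (h : ins Z F T V t = 0) :
    ∃ (T' : ZClos.Cl Z) (hle : T ≤ T'), mres F (inf_le_inf_left V (ZClos.Cl.U_anti hle)) t = 0 := by
  obtain ⟨T', g, hg⟩ := QCoh8.sec_zero (colimit.isColimit ((ZClos.diagram Z).obj F)) hV (toPush F T.U V t) h
  refine ⟨T', g.le, (toPush_bijective F T'.U V).1 ?_⟩
  rw [map_zero]
  exact (resPushMapApp_eq F (ZClos.Cl.U_anti g.le) V t).symm.trans hg

omit [IsLocallyNoetherian X] in
/-- Restriction to the complement of a member of the index. -/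
noncomputable def res (T : ZClos.Cl Z) (V : X.Opens) : Γ(F, V) ⟶ Γ(F, V ⊓ T.U) := mres F inf_le_left

omit [IsLocallyNoetherian X] in
/-- no non-zero section vanishes off a closed subset of `Z` -/
def Pure : Prop := ∀ (T : ZClos.Cl Z) (V : X.Opens), Function.Injective (res Z F T V)

omit [IsLocallyNoetherian X] in
/-- sections extend uniquely across the closed subsets of `Z` -/
def Closd : Prop := ∀ (T : ZClos.Cl Z) (V : X.Opens), Function.Bijective (res Z F T V)

omit [IsLocallyNoetherian X] in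
theorem toDiagram_app (T : ZClos.Cl Z) (V : X.Opens) :
    ⇑((ZClos.toDiagram Z F T).app V) = toPush F T.U V ∘ res Z F T V :=
  funext fun a => resPushUnit_eq F T.U V a

omit [IsLocallyNoetherian X] in
theorem mono_toDiagram_iff (T : ZClos.Cl Z) :
    Mono (ZClos.toDiagram Z F T) ↔ ∀ V : X.Opens, Function.Injective (res Z F T V) := by
  rw [M1.mono_iff_app]
  refine forall_congr' fun V => ?_
  rw [show (⇑((ZClos.toDiagram Z F T).app V) : _ → _) = toPush F T.U V ∘ res Z F T V from toDiagram_app Z F T V]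
  exact (toPush_bijective F T.U V).1.of_comp_iff _

omit [IsLocallyNoetherian X] in
theorem isIso_toDiagram_iff (T : ZClos.Cl Z) :
    IsIso (ZClos.toDiagram Z F T) ↔ ∀ V : X.Opens, Function.Bijective (res Z F T V) := by
  rw [Scheme.Modules.Hom.isIso_iff_isIso_app]
  refine forall_congr' fun V => ?_
  rw [ConcreteCategory.isIso_iff_bijective]
  show Function.Bijective ⇑((ZClos.toDiagram Z F T).app V) ↔ _
  rw [show (⇑((ZClos.toDiagram Z F T).app V) : _ → _) = toPush F T.U V ∘ res Z F T V from toDiagram_app Z F T V]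
  exact (toPush_bijective F T.U V).of_comp_iff' _

omit [IsLocallyNoetherian X] in
theorem pure_of_basis (P : X.Opens → Prop) (hP : ∀ (V : X.Opens) (x : X), x ∈ V → ∃ W, P W ∧ x ∈ W ∧ W ≤ V)
    (h : ∀ (T : ZClos.Cl Z) (V : X.Opens), P V → Function.Injective (res Z F T V)) : Pure Z F := by
  intro T V
  refine (injective_iff_map_eq_zero _).2 fun a ha => ?_
  refine M1.modules_eq_of_locally_eq F V (fun W : {W : X.Opens // P W ∧ W ≤ V} => W.1)
    (fun W => W.2.2) (fun x hx => ?_) _ _ fun W => ?_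
  · obtain ⟨W, hW, hxW, hWV⟩ := hP V x hx
    exact Opens.mem_iSup.2 ⟨⟨W, hW, hWV⟩, hxW⟩
  · rw [map_zero]
    refine h T W.1 W.2.1 ?_
    rw [map_zero]
    show mres F _ (mres F _ a) = 0
    rw [mres_mres, ← mres_mres F (inf_le_left : V ⊓ T.U ≤ V) (inf_le_inf_right T.U W.2.2)]
    show mres F _ (res Z F T V a) = 0
    rw [ha, map_zero]

omit [IsLocallyNoetherian X] in
theorem closd_of_basis (P : X.Opens → Prop) (hP : ∀ (V : X.Opens) (x : X), x ∈ V → ∃ W, P W ∧ x ∈ W ∧ W ≤ V)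
    (h : ∀ (T : ZClos.Cl Z) (V : X.Opens), P V → Function.Bijective (res Z F T V)) : Closd Z F := by
  have hp : Pure Z F := pure_of_basis Z F P hP fun T V hV => (h T V hV).1
  intro T V
  refine ⟨hp T V, fun s => ?_⟩
  let ι := {W : X.Opens // P W ∧ W ≤ V}
  choose a ha using fun W : ι => (h T W.1 W.2.1).2 (mres F (inf_le_inf_right T.U W.2.2) s)
  have hcov : V ≤ ⨆ W : ι, W.1 := fun x hx => by
    obtain ⟨W, hW, hxW, hWV⟩ := hP V x hx
    exact Opens.mem_iSup.2 ⟨⟨W, hW, hWV⟩, hxW⟩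
  obtain ⟨b, hb, -⟩ := TopCat.Sheaf.existsUnique_gluing' (F := ⟨_, F.isSheaf⟩) (fun W : ι => W.1) V
    (fun W => homOfLE W.2.2) hcov a fun W W' => by
      refine hp T (W.1 ⊓ W'.1) ?_
      show mres F inf_le_left (mres F inf_le_left (a W)) = mres F inf_le_left (mres F inf_le_right (a W'))
      rw [mres_mres, mres_mres, ← mres_mres F (inf_le_left : W.1 ⊓ T.U ≤ W.1) (inf_le_inf_right T.U inf_le_left),
        ← mres_mres F (inf_le_left : W'.1 ⊓ T.U ≤ W'.1) (inf_le_inf_right T.U inf_le_right)]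
      show mres F _ (res Z F T W.1 (a W)) = mres F _ (res Z F T W'.1 (a W'))
      rw [ha, ha, mres_mres, mres_mres]
  refine ⟨b, M1.modules_eq_of_locally_eq F _ (fun W : ι => W.1 ⊓ T.U) (fun W => inf_le_inf_right T.U W.2.2)
    ?_ _ _ fun W => ?_⟩
  · intro x hx
    obtain ⟨W, hW⟩ := Opens.mem_iSup.1 (hcov hx.1)
    exact Opens.mem_iSup.2 ⟨W, hW, hx.2⟩
  · rw [← ha W]
    show mres F _ (mres F _ b) = mres F _ (a W)
    rw [← show mres F W.2.2 b = a W from hb W, mres_mres, mres_mres]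

omit [IsLocallyNoetherian X] in
theorem exists_compact_nhd (V : X.Opens) (x : X) (hx : x ∈ V) :
    ∃ W : X.Opens, IsCompact (W : Set X) ∧ x ∈ W ∧ W ≤ V := by
  obtain ⟨W, hW, hxW, hWV⟩ := exists_isAffineOpen_mem_and_subset (x := x) (U := V) hx
  exact ⟨W, hW.isCompact, hxW, hWV⟩

omit [IsLocallyNoetherian X] in
theorem pure_of_compact
    (h : ∀ (T : ZClos.Cl Z) (V : X.Opens), IsCompact (V : Set X) → Function.Injective (res Z F T V)) :
    Pure Z F :=
  pure_of_basis Z F (fun W => IsCompact (W : Set X)) exists_compact_nhd h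

omit [IsLocallyNoetherian X] in
theorem closd_of_compact
    (h : ∀ (T : ZClos.Cl Z) (V : X.Opens), IsCompact (V : Set X) → Function.Bijective (res Z F T V)) :
    Closd Z F :=
  closd_of_basis Z F (fun W => IsCompact (W : Set X)) exists_compact_nhd h

theorem isZPure_iff : ZClos.IsZPure Z F ↔ Pure Z F := by
  constructor
  · intro (h : Mono (ZClos.rhoApp Z F)) T
    rw [ZClos.rhoApp_eq Z F T] at h
    haveI := h
    exact (mono_toDiagram_iff Z F T).1 (mono_of_mono _ (colimit.ι ((ZClos.diagram Z).obj F) T))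
  · intro h
    refine M1.mono_of_basis _ {W | IsAffineOpen W} X.isBasis_affineOpens fun V hV => ?_
    refine (injective_iff_map_eq_zero _).2 fun a ha => ?_
    rw [rhoApp_eq Z F ⊥] at ha
    obtain ⟨T, hle, hT⟩ := exists_of_ins_eq_zero Z F hV.isCompact _ ha
    rw [mres_mres] at hT
    exact h T V (hT.trans (map_zero _).symm)

theorem closd_of_isZClosed (h : ZClos.IsZClosed Z F) : Closd Z F := by
  haveI : IsIso (ZClos.rhoApp Z F) := h
  have hp : Pure Z F := (isZPure_iff Z F).1 (inferInstanceAs (Mono (ZClos.rhoApp Z F)))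
  refine closd_of_compact Z F fun T V hV => ⟨hp T V, fun t => ?_⟩
  obtain ⟨a, ha⟩ := (ConcreteCategory.bijective_of_isIso ((ZClos.rhoApp Z F).app V)).2 (ins Z F T V t)
  rw [rhoApp_eq Z F T] at ha
  obtain ⟨T', hle, hT'⟩ := exists_of_ins_eq_zero Z F hV (mres F inf_le_left a - t) (by rw [map_sub, ha, sub_self])
  refine ⟨a, hp T' (V ⊓ T.U) ?_⟩
  have h1 := congrArg (mres F (show (V ⊓ T.U) ⊓ T'.U ≤ V ⊓ T'.U from inf_le_inf_right _ inf_le_left)) hT'
  rw [map_sub, map_sub, sub_eq_zero.symm.trans Iff.rfl] at h1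
  simpa only [res, mres_mres, map_zero, sub_eq_zero] using h1

theorem isZClosed_iff : ZClos.IsZClosed Z F ↔ Closd Z F := by
  refine ⟨closd_of_isZClosed Z F, fun h => ?_⟩
  haveI : Mono (ZClos.rhoApp Z F) := (isZPure_iff Z F).2 fun T V => (h T V).1
  haveI : Epi (ZClos.rhoApp Z F) := by
    rw [M1.epi_iff_locally_surjective]
    intro V s x hx
    obtain ⟨W, hW, hxW, hWV⟩ := exists_isAffineOpen_mem_and_subset (x := x) (U := V) hx
    obtain ⟨T, t, ht⟩ := exists_ins Z F hW.isCompact (mres _ hWV s)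
    obtain ⟨a, rfl⟩ := (h T W).2 t
    exact ⟨W, hWV, hxW, a, (rhoApp_eq Z F T W a).trans ht⟩
  exact isIso_of_mono_of_epi _

end Groth.Agent.ZClos5
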