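import Groth.Prelude.Def_EGA4b
import Groth.Agent.Lib.UCat26.DimEq
import Groth.Agent.S4568

/-!
# Finiteness of the intersection of the localisations at the primes of height one
-/

set_option autoImplicit false
universe u

namespace Groth.Agent.ZClos5

variable {A : Type u} [CommRing A] [IsDomain A]

/-- The intersection of the localisations at the primes of height one, as a subalgebra. -/
def hullSub (A : Type u) [CommRing A] [IsDomain A] : Subalgebra A (FractionRing A) where
  carrier := EGA4.heightOneHull A
  mul_mem' := fun {x y} hx hy p _ hp => by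
    obtain ⟨s, hs, a, ha⟩ := hx p hp
    obtain ⟨t, ht, b, hb⟩ := hy p hp
    refine ⟨s * t, fun h => (‹p.IsPrime›.mem_or_mem h).elim hs ht, a * b, ?_⟩
    rw [map_mul, map_mul, ha, hb]; ring
  add_mem' := fun {x y} hx hy p _ hp => by
    obtain ⟨s, hs, a, ha⟩ := hx p hp
    obtain ⟨t, ht, b, hb⟩ := hy p hp
    refine ⟨s * t, fun h => (‹p.IsPrime›.mem_or_mem h).elim hs ht, a * t + s * b, ?_⟩
    rw [map_add, map_mul, map_mul, map_mul, ha, hb]; ring
  algebraMap_mem' := fun r p _ _ => ⟨1, fun h => ‹p.IsPrime›.ne_top (Ideal.eq_top_of_isUnit_mem p h isUnit_one), r, by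
    rw [map_one, one_mul]⟩

theorem coe_hullSub : (hullSub A : Set (FractionRing A)) = EGA4.heightOneHull A := rfl

theorem heightOneHullFinite_of_finite_hullSub (h : Module.Finite A (hullSub A)) : EGA4.HeightOneHullFinite A :=
  ⟨hullSub A, rfl, h⟩

theorem heightOneHullFinite_of_subset [IsNoetherianRing A] (S : Submodule A (FractionRing A)) [Module.Finite A S]
    (h : EGA4.heightOneHull A ⊆ S) : EGA4.HeightOneHullFinite A := by
  refine heightOneHullFinite_of_finite_hullSub ?_
  haveI : IsNoetherian A S := isNoetherian_of_isNoetherianRing_of_finite A S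
  exact Module.Finite.of_injective
    ({ toFun := fun x => ⟨x.1, h x.2⟩, map_add' := fun _ _ => rfl, map_smul' := fun _ _ => rfl } : hullSub A →ₗ[A] S)
    fun a b hab => Subtype.ext (congrArg (fun z : S => z.1) hab)

/-- Universally catenary with finite normalisation. -/
theorem heightOneHullFinite_of_universallyCatenary [IsNoetherianRing A] (hA : CAlg.IsUniversallyCatenary A)
    (hint : Module.Finite A (integralClosure A (FractionRing A))) : EGA4.HeightOneHullFinite A := by
  haveI : Module.Finite A (Subalgebra.toSubmodule (integralClosure A (FractionRing A))) := hint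
  refine heightOneHullFinite_of_subset (Subalgebra.toSubmodule (integralClosure A (FractionRing A))) fun x hx => ?_
  show x ∈ (integralClosure A (FractionRing A) : Set (FractionRing A))
  rw [Groth.Agent.S4568.result fun C _ hC q _ hq => ?_]
  · simp only [Set.mem_iInter, Set.mem_setOf_eq]
    intro p hp
    obtain ⟨s, hs, a, ha⟩ := hx p.asIdeal hp
    exact ⟨s, hs, ha ▸ Subalgebra.algebraMap_mem _ a⟩
  · haveI := hC
    haveI : q.LiesOver (q.comap (algebraMap A C)) := ⟨rfl⟩
    have key := UCat26.height_add_tr_eq A hA C (q.comap (algebraMap A C)) q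
    have h1 : DimFormula14.tr (A ⧸ q.comap (algebraMap A C)) (C ⧸ q) = 0 := by
      haveI : Module.Finite (A ⧸ q.comap (algebraMap A C)) (C ⧸ q) := Module.Finite.of_restrictScalars_finite A _ _
      rw [DimFormula14.tr, trdeg_eq_zero]; simp
    have h2 : DimFormula14.tr A C = 0 := by rw [DimFormula14.tr, trdeg_eq_zero]; simp
    rw [h1, h2, add_zero, add_zero, hq] at key
    exact key.symm

end Groth.Agent.ZClos5
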