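import Groth.Agent.Lib.ZClos5.AffLoc
import Groth.Agent.Lib.ZClos5.Hull
import Mathlib.RingTheory.Ideal.AssociatedPrime.Localization
import Mathlib.Algebra.Module.FinitePresentation

/-!
# Finiteness of `Γ(H⁰_Z(M~))` by dévissage to the quotients by associated primes
-/

set_option autoImplicit false
set_option backward.isDefEq.respectTransparency false

universe u

open CategoryTheory CategoryTheory.Limits AlgebraicGeometry TopologicalSpace Opposite

namespace Groth.Agent.ZClos5

variable {R : CommRingCat.{u}} (Z : Set (Spec R : Scheme.{u}))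

/-- `Γ(H⁰_Z(M~))` is a finite module. -/
def LFin (M : Type u) [AddCommGroup M] [Module R M] : Prop :=
  Module.Finite R ((secH0 Z).obj (ModuleCat.of R M))

variable [IsNoetherianRing R] (hZ : StableUnderSpecialization Z)
include hZ

theorem preservesFiniteLimits_secH0 : PreservesFiniteLimits (secH0 Z) := by
  haveI : PreservesFiniteLimits (ZClos.H0 Z) := Groth.Agent.S5840.result _ Z hZ
  haveI : (moduleSpecΓFunctor (R := R)).IsRightAdjoint := (tilde.adjunction (R := R)).isRightAdjoint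
  haveI : PreservesFiniteLimits (ZClos.H0 Z ⋙ moduleSpecΓFunctor (R := R)) := comp_preservesFiniteLimits _ _
  exact comp_preservesFiniteLimits _ _

theorem lfin_of_injective {M N : Type u} [AddCommGroup M] [Module R M] [AddCommGroup N] [Module R N]
    (f : M →ₗ[R] N) (hf : Function.Injective f) (h : LFin Z N) : LFin Z M := by
  haveI := preservesFiniteLimits_secH0 Z hZ
  haveI : Mono (ModuleCat.ofHom f) := (ModuleCat.mono_iff_injective _).2 hf
  haveI : Module.Finite R ((secH0 Z).obj (ModuleCat.of R N)) := h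
  exact Module.Finite.of_injective ((secH0 Z).map (ModuleCat.ofHom f)).hom
    ((ModuleCat.mono_iff_injective _).1 inferInstance)

theorem lfin_of_ker {M N : Type u} [AddCommGroup M] [Module R M] [AddCommGroup N] [Module R N]
    (g : M →ₗ[R] N) (h₁ : LFin Z (LinearMap.ker g)) (h₂ : LFin Z N) : LFin Z M := by
  haveI := preservesFiniteLimits_secH0 Z hZ
  haveI : Limits.PreservesBinaryBiproducts (secH0 Z) := preservesBinaryBiproducts_of_preservesBinaryProducts _
  haveI : (secH0 Z).Additive := Functor.additive_of_preservesBinaryBiproducts _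
  let S : ShortComplex (ModuleCat.{u} R) := ShortComplex.mk (ModuleCat.ofHom (LinearMap.ker g).subtype)
    (ModuleCat.ofHom g) (ModuleCat.hom_ext (LinearMap.ext fun a => a.2))
  have hS : S.Exact := (ShortComplex.moduleCat_exact_iff S).2 fun a ha => ⟨⟨a, ha⟩, rfl⟩
  have hm : Mono S.f := (ModuleCat.mono_iff_injective _).2 (Submodule.injective_subtype _)
  have hLS : (S.map (secH0 Z)).Exact := hS.map_of_mono_of_preservesKernel (secH0 Z) hm inferInstance
  let φ := ((secH0 Z).map S.f).hom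
  let ψ := ((secH0 Z).map S.g).hom
  haveI : Module.Finite R ((secH0 Z).obj (ModuleCat.of R N)) := h₂
  haveI : Module.Finite R ((secH0 Z).obj (ModuleCat.of R (LinearMap.ker g))) := h₁
  haveI : IsNoetherian R ((secH0 Z).obj (ModuleCat.of R N)) := isNoetherian_of_isNoetherianRing_of_finite R _
  refine ⟨Submodule.fg_of_fg_map_of_fg_inf_ker ψ ?_ ?_⟩
  · exact IsNoetherian.noetherian _
  · rw [top_inf_eq, show LinearMap.ker ψ = LinearMap.range φ from le_antisymm
      (fun a ha => (ShortComplex.moduleCat_exact_iff _).1 hLS a ha) (by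
        rintro _ ⟨b, rfl⟩
        exact congr($((S.map (secH0 Z)).zero).hom b))]
    exact Module.Finite.iff_fg.1 inferInstance

theorem subsingleton_secH0 (M : Type u) [AddCommGroup M] [Module R M]
    (h : ∀ (m : M) (x : (Spec R : Scheme.{u})), x ∉ Z → ∃ r : R, r ∉ x.asIdeal ∧ r • m = 0) :
    Subsingleton ((secH0 Z).obj (ModuleCat.of R M)) := by
  refine subsingleton_of_forall_eq 0 fun s => secH0_eq_zero Z hZ _ s fun x hx => ?_
  obtain ⟨r, hr, m, hm⟩ := secH0_smul_eq Z hZ _ s x hx
  obtain ⟨c, hc, hcm⟩ := h m x hx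
  refine ⟨c * r, fun h' => (x.isPrime.mem_or_mem h').elim hc hr, ?_⟩
  rw [mul_smul, hm, ← map_smul, hcm, map_zero]

theorem lfin_of_support (M : Type u) [AddCommGroup M] [Module R M]
    (h : ∀ (m : M) (x : (Spec R : Scheme.{u})), x ∉ Z → ∃ r : R, r ∉ x.asIdeal ∧ r • m = 0) : LFin Z M :=
  haveI := subsingleton_secH0 Z hZ M h
  inferInstanceAs (Module.Finite R ((secH0 Z).obj (ModuleCat.of R M)))

theorem lfin_of_subsingleton (M : Type u) [AddCommGroup M] [Module R M] [Subsingleton M] : LFin Z M :=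
  lfin_of_support Z hZ M fun _ x _ => ⟨1, fun h => x.isPrime.ne_top ((Ideal.eq_top_iff_one _).2 h),
    Subsingleton.elim _ _⟩

section Prime

variable (p : Ideal R) [p.IsPrime] (hp : (⟨p, inferInstance⟩ : PrimeSpectrum R) ∉ Z)
include hp

/-- Sections of the closure of `R/p` as elements of the field of fractions of `R/p`. -/
theorem exists_frac : ∃ Φ : (secH0 Z).obj (ModuleCat.of R (R ⧸ p)) →ₗ[R] FractionRing (R ⧸ p), Function.Injective Φ ∧
    ∀ s (r : R) (m : R ⧸ p), r • s = secRho Z (ModuleCat.of R (R ⧸ p)) m →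
      algebraMap (R ⧸ p) (FractionRing (R ⧸ p)) (Ideal.Quotient.mk p r) * Φ s = algebraMap _ _ m := by
  set K := FractionRing (R ⧸ p)
  set ι := algebraMap (R ⧸ p) K with hι
  have hinj : Function.Injective ι := IsFractionRing.injective _ _
  let x₀ : (Spec R : Scheme.{u}) := ⟨p, inferInstance⟩
  have hex : ∀ s : (secH0 Z).obj (ModuleCat.of R (R ⧸ p)), ∃ k : K, ∃ r₀ : R, ι (Ideal.Quotient.mk p r₀) ≠ 0 ∧
      ∀ (r : R) (m : R ⧸ p), r • s = secRho Z (ModuleCat.of R (R ⧸ p)) m → ι (Ideal.Quotient.mk p r) * k = ι m := by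
    intro s
    obtain ⟨r₀, hr₀, m₀, hm₀⟩ := secH0_smul_eq Z hZ _ s x₀ hp
    have hne : ι (Ideal.Quotient.mk p r₀) ≠ 0 := fun h =>
      hr₀ (Ideal.Quotient.eq_zero_iff_mem.1 (hinj (h.trans (map_zero ι).symm)))
    refine ⟨ι m₀ / ι (Ideal.Quotient.mk p r₀), r₀, hne, fun r m hm => ?_⟩
    have h0 : secRho Z (ModuleCat.of R (R ⧸ p)) (r • m₀ - r₀ • m) = 0 := by
      rw [map_sub, map_smul, map_smul, ← hm₀, ← hm, smul_comm, sub_self]
    obtain ⟨c, hc, hcm⟩ := secRho_eq_zero Z hZ _ _ h0 x₀ hp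
    have h1 : Ideal.Quotient.mk p c * (Ideal.Quotient.mk p r * m₀ - Ideal.Quotient.mk p r₀ * m) = 0 := hcm
    have h2 := (mul_eq_zero.1 h1).resolve_left (fun h => hc (Ideal.Quotient.eq_zero_iff_mem.1 h))
    rw [sub_eq_zero] at h2
    rw [mul_div_assoc', div_eq_iff hne, ← map_mul, ← map_mul, h2, mul_comm]
  choose f r₀ hr₀ hf using hex
  have huniq : ∀ s k, (∀ x : (Spec R : Scheme.{u}), x = x₀ → ∀ (r : R) (m : R ⧸ p),
      r • s = secRho Z (ModuleCat.of R (R ⧸ p)) m → ι (Ideal.Quotient.mk p r) * k = ι m) → f s = k := fun s k hk => by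
    obtain ⟨r, hr, m, hm⟩ := secH0_smul_eq Z hZ _ s x₀ hp
    have hne : ι (Ideal.Quotient.mk p r) ≠ 0 := fun h =>
      hr (Ideal.Quotient.eq_zero_iff_mem.1 (hinj (h.trans (map_zero ι).symm)))
    exact mul_left_cancel₀ hne ((hf s r m hm).trans (hk x₀ rfl r m hm).symm)
  refine ⟨{ toFun := f, map_add' := fun a b => ?_, map_smul' := fun c a => ?_ }, ?_, fun s r m hm => hf s r m hm⟩
  · obtain ⟨ra, hra, ma, hma⟩ := secH0_smul_eq Z hZ _ a x₀ hp
    obtain ⟨rb, hrb, mb, hmb⟩ := secH0_smul_eq Z hZ _ b x₀ hp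
    have hne : ι (Ideal.Quotient.mk p (rb * ra)) ≠ 0 := fun h =>
      (‹p.IsPrime›.mem_or_mem (Ideal.Quotient.eq_zero_iff_mem.1 (hinj (h.trans (map_zero ι).symm)))).elim hrb hra
    refine mul_left_cancel₀ hne ?_
    rw [mul_add, hf (a + b) (rb * ra) (rb • ma + ra • mb) ?_, map_add, map_mul, map_mul]
    · congr 1
      · rw [mul_assoc, hf a ra ma hma, ← map_mul]; rfl
      · rw [mul_comm (ι (Ideal.Quotient.mk p rb)), mul_assoc, hf b rb mb hmb, ← map_mul]; rfl
    · rw [map_add, map_smul, map_smul, ← hma, ← hmb, smul_add, mul_smul, mul_smul, smul_comm ra rb b]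
  · obtain ⟨r, hr, m, hm⟩ := secH0_smul_eq Z hZ _ a x₀ hp
    have hne : ι (Ideal.Quotient.mk p r) ≠ 0 := fun h =>
      hr (Ideal.Quotient.eq_zero_iff_mem.1 (hinj (h.trans (map_zero ι).symm)))
    refine mul_left_cancel₀ hne ?_
    rw [RingHom.id_apply, hf (c • a) r (c • m) (by rw [map_smul, ← hm, smul_comm]), mul_smul_comm, hf a r m hm]
    exact (IsScalarTower.toAlgHom R (R ⧸ p) K).toLinearMap.map_smul c m
  · refine (injective_iff_map_eq_zero _).2 fun s (hs : f s = 0) => secH0_eq_zero Z hZ _ s fun x hx => ?_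
    obtain ⟨r, hr, m, hm⟩ := secH0_smul_eq Z hZ _ s x hx
    have h1 := hf s r m hm
    rw [hs, mul_zero] at h1
    refine ⟨r, hr, ?_⟩
    rw [hm, (hinj ((map_zero ι).trans h1)).symm]
    exact map_zero _

variable (hht : ∀ y ∈ Z, p ≤ y.asIdeal → (2 : ℕ∞) ≤ (y.asIdeal.map (Ideal.Quotient.mk p)).height)

omit hp in
theorem lfin_quotient_of_mem (hp' : (⟨p, inferInstance⟩ : PrimeSpectrum R) ∈ Z) : LFin Z (R ⧸ p) :=
  lfin_of_support Z hZ _ fun m x hx => by
    obtain ⟨a, hap, hax⟩ : ∃ a, a ∈ p ∧ a ∉ x.asIdeal := by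
      by_contra h
      push Not at h
      exact hx (hZ ((PrimeSpectrum.le_iff_specializes ⟨p, inferInstance⟩ x).1 h) hp')
    refine ⟨a, hax, ?_⟩
    obtain ⟨b, rfl⟩ := Ideal.Quotient.mk_surjective m
    exact Ideal.Quotient.eq_zero_iff_mem.2 (p.mul_mem_right b hap)

include hht in
theorem lfin_quotient (hfin : EGA4.HeightOneHullFinite (R ⧸ p)) : LFin Z (R ⧸ p) := by
  obtain ⟨Φ, hΦ, hf⟩ := exists_frac Z hZ p hp
  obtain ⟨S, hS, hSfin⟩ := hfin
  haveI : Module.Finite R S := Module.Finite.trans (R ⧸ p) S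
  have hmem : ∀ s, Φ s ∈ (Subalgebra.toSubmodule S).restrictScalars R := fun s => by
    show Φ s ∈ (S : Set _)
    rw [hS]
    intro P _ hP
    let x : (Spec R : Scheme.{u}) := ⟨P.comap (Ideal.Quotient.mk p), inferInstance⟩
    have hx : x ∉ Z := fun hxZ => by
      have h2 := hht x hxZ (Ideal.mk_ker.ge.trans (Ideal.ker_le_comap _))
      rw [Ideal.map_comap_of_surjective _ Ideal.Quotient.mk_surjective, hP] at h2
      exact absurd h2 (by decide)
    obtain ⟨r, hr, m, hm⟩ := secH0_smul_eq Z hZ _ s x hx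
    exact ⟨Ideal.Quotient.mk p r, hr, m, (hf s r m hm).symm⟩
  haveI : Module.Finite R ((Subalgebra.toSubmodule S).restrictScalars R) := ‹Module.Finite R S›
  haveI : IsNoetherian R ((Subalgebra.toSubmodule S).restrictScalars R) :=
    isNoetherian_of_isNoetherianRing_of_finite R _
  exact Module.Finite.of_injective (Φ.codRestrict _ hmem) fun a b hab => hΦ (congrArg Subtype.val hab)

theorem heightOneHullFinite_of_lfin
    (hcod : ∀ x : (Spec R : Scheme.{u}), x ∉ Z → p ≤ x.asIdeal → (x.asIdeal.map (Ideal.Quotient.mk p)).height ≤ 1)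
    (h : LFin Z (R ⧸ p)) : EGA4.HeightOneHullFinite (R ⧸ p) := by
  obtain ⟨Φ, -, hf⟩ := exists_frac Z hZ p hp
  haveI : Module.Finite R ((secH0 Z).obj (ModuleCat.of R (R ⧸ p))) := h
  set K := FractionRing (R ⧸ p)
  have hfg := (Module.Finite.fg_top (R := R) (M := (secH0 Z).obj (ModuleCat.of R (R ⧸ p)))).map Φ
  obtain ⟨t, ht⟩ := hfg
  refine heightOneHullFinite_of_subset (Submodule.span (R ⧸ p) (t : Set K)) fun k hk => ?_
  suffices hkr : k ∈ LinearMap.range Φ by
    rw [LinearMap.range_eq_map, ← ht] at hkr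
    exact Submodule.span_le_restrictScalars R (R ⧸ p) _ hkr
  set ι := algebraMap (R ⧸ p) K with hι
  have hinj : Function.Injective ι := IsFractionRing.injective _ _
  let N : Submodule R K := Submodule.span R {1, k}
  let u : (R ⧸ p) →ₗ[R] N :=
    ((IsScalarTower.toAlgHom R (R ⧸ p) K).toLinearMap).codRestrict N fun b => by
      obtain ⟨a, rfl⟩ := Ideal.Quotient.mk_surjective b
      show ι (Ideal.Quotient.mk p a) ∈ N
      rw [show ι (Ideal.Quotient.mk p a) = a • (1 : K) by rw [← Algebra.algebraMap_eq_smul_one]; rfl]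
      exact N.smul_mem a (Submodule.subset_span (Set.mem_insert _ _))
  have hden : ∀ x : (Spec R : Scheme.{u}), x ∉ Z → ∃ a : R, a ∉ x.asIdeal ∧ ∃ b : R ⧸ p, a • k = ι b ∧ True := by
    intro x hx
    by_cases hpx : p ≤ x.asIdeal
    · have hprime : (x.asIdeal.map (Ideal.Quotient.mk p)).IsPrime :=
        Ideal.map_isPrime_of_surjective Ideal.Quotient.mk_surjective (Ideal.mk_ker.trans_le hpx)
      obtain ⟨s, hs, b, hb⟩ : ∃ s : R ⧸ p, s ∉ x.asIdeal.map (Ideal.Quotient.mk p) ∧ ∃ b, ι b = ι s * k := by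
        rcases (hcod x hx hpx).eq_or_lt with h1 | h1
        · exact hk _ h1
        · rw [ENat.lt_one_iff_eq_zero, Ideal.height_eq_zero_iff_eq_bot] at h1
          have hbot : x.asIdeal.map (Ideal.Quotient.mk p) = ⊥ := h1
          obtain ⟨b, c, hc, hbc⟩ := IsFractionRing.div_surjective (A := R ⧸ p) k
          refine ⟨c, by rw [hbot, Ideal.mem_bot]; exact nonZeroDivisors.ne_zero hc, b, ?_⟩
          rw [← hbc, mul_div_cancel₀]
          exact fun h => nonZeroDivisors.ne_zero hc (hinj (h.trans (map_zero ι).symm))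
      obtain ⟨a, rfl⟩ := Ideal.Quotient.mk_surjective s
      exact ⟨a, fun h => hs (Ideal.mem_map_of_mem _ h), b, ((Algebra.smul_def a k).trans hb.symm), trivial⟩
    · obtain ⟨a, hap, hax⟩ := SetLike.not_le_iff_exists.1 hpx
      refine ⟨a, hax, 0, ?_, trivial⟩
      rw [map_zero, Algebra.smul_def, IsScalarTower.algebraMap_apply R (R ⧸ p) K,
        show algebraMap R (R ⧸ p) a = 0 from Ideal.Quotient.eq_zero_iff_mem.2 hap, map_zero, zero_mul]
  have hu : ∀ x : (Spec R : Scheme.{u}), x ∉ Z →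
      (∀ m, (ModuleCat.ofHom u) m = 0 → ∃ r : R, r ∉ x.asIdeal ∧ r • m = 0) ∧
        ∀ n, ∃ r : R, r ∉ x.asIdeal ∧ ∃ m, (ModuleCat.ofHom u) m = r • n := by
    intro x hx
    refine ⟨fun m hm => ⟨1, fun h => x.isPrime.ne_top ((Ideal.eq_top_iff_one _).2 h), ?_⟩, fun n => ?_⟩
    · rw [one_smul]
      exact hinj ((congrArg Subtype.val hm).trans (map_zero ι).symm)
    · obtain ⟨a, hax, b, hb, -⟩ := hden x hx
      obtain ⟨c, d, hcd⟩ := Submodule.mem_span_pair.1 (show (n : K) ∈ Submodule.span R {1, k} from n.2)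
      refine ⟨a, hax, (a * c) • (1 : R ⧸ p) + d • b, Subtype.ext ?_⟩
      show ι ((a * c) • (1 : R ⧸ p) + d • b) = a • (n : K)
      rw [← hcd, map_add, smul_add, smul_comm a d, hb, mul_smul]
      show (IsScalarTower.toAlgHom R (R ⧸ p) K).toLinearMap (a • c • 1) +
        (IsScalarTower.toAlgHom R (R ⧸ p) K).toLinearMap (d • b) = _
      rw [map_smul, map_smul, map_smul]
      simp [hι]
  obtain ⟨s, hs⟩ := (bijective_secH0_map Z hZ (ModuleCat.ofHom u) hu).2
    (secRho Z (ModuleCat.of R N) ⟨k, Submodule.subset_span (Set.mem_insert_of_mem _ rfl)⟩)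
  refine ⟨s, ?_⟩
  let x₀ : (Spec R : Scheme.{u}) := ⟨p, inferInstance⟩
  obtain ⟨r, hr, m, hm⟩ := secH0_smul_eq Z hZ _ s x₀ hp
  have h1 := congrArg ((secH0 Z).map (ModuleCat.ofHom u)) hm
  rw [map_smul, hs, ← map_smul, ← ConcreteCategory.comp_apply, secRho_naturality, ConcreteCategory.comp_apply] at h1
  obtain ⟨c, hc, hc0⟩ := secRho_eq_zero Z hZ (ModuleCat.of R N) (r • ⟨k, _⟩ - u m) (by
    rw [map_sub, sub_eq_zero]; exact h1) x₀ hp
  have hne : ∀ a : R, a ∉ p → ι (Ideal.Quotient.mk p a) ≠ 0 := fun a ha h =>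
    ha (Ideal.Quotient.eq_zero_iff_mem.1 (hinj (h.trans (map_zero ι).symm)))
  have h2 : c • (r • k - ι m) = 0 := congrArg Subtype.val hc0
  rw [Algebra.smul_def, mul_eq_zero, sub_eq_zero] at h2
  refine mul_left_cancel₀ (hne r hr) ?_
  rw [hf s r m hm, ← h2.resolve_left (hne c hc), Algebra.smul_def]
  rfl

end Prime

/-- A module torsion-free over `R/p`. -/
theorem lfin_of_torsionFree (p : Ideal R) [p.IsPrime] (h : LFin Z (R ⧸ p))
    (N : Type u) [AddCommGroup N] [Module R N] [Module.Finite R N] (hp : ∀ a ∈ p, ∀ n : N, a • n = 0)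
    (hreg : ∀ a ∉ p, IsSMulRegular N a) : LFin Z N := by
  classical
  letI : Module (R ⧸ p) N := Module.IsTorsionBySet.module (I := p) fun n a => hp a.1 a.2 n
  haveI : IsScalarTower R (R ⧸ p) N := Module.IsTorsionBySet.isScalarTower _
  haveI : Module.Finite (R ⧸ p) N := Module.Finite.of_restrictScalars_finite R _ _
  haveI : Module.FinitePresentation (R ⧸ p) N := Module.finitePresentation_of_finite _ _
  let K := FractionRing (R ⧸ p)
  let W := LocalizedModule (nonZeroDivisors (R ⧸ p)) N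
  haveI : Module.Finite K W :=
    Module.Finite.of_isLocalizedModule (nonZeroDivisors (R ⧸ p)) (LocalizedModule.mkLinearMap (nonZeroDivisors (R ⧸ p)) N)
  let b := Module.finBasis K W
  let g : N →ₗ[R ⧸ p] (Fin (Module.finrank K W) → K) :=
    ((b.equivFun.toLinearMap).restrictScalars (R ⧸ p)).comp (LocalizedModule.mkLinearMap (nonZeroDivisors (R ⧸ p)) N)
  let incl : (Fin (Module.finrank K W) → R ⧸ p) →ₗ[R ⧸ p] (Fin (Module.finrank K W) → K) :=
    LinearMap.pi fun i => (Algebra.linearMap (R ⧸ p) K).comp (LinearMap.proj i)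
  obtain ⟨hh, s, hhs⟩ := Module.FinitePresentation.exists_lift_of_isLocalizedModule (nonZeroDivisors (R ⧸ p)) incl g
  have hne : ∀ c : nonZeroDivisors (R ⧸ p), Function.Injective fun n : N => (c : R ⧸ p) • n := fun c => by
    obtain ⟨a, ha⟩ := Ideal.Quotient.mk_surjective (c : R ⧸ p)
    have hap : a ∉ p := fun h => nonZeroDivisors.ne_zero c.2 (ha ▸ Ideal.Quotient.eq_zero_iff_mem.2 h)
    intro n n' hn
    refine hreg a hap ?_
    show a • n = a • n'
    rw [← algebraMap_smul (R ⧸ p) a n, ← algebraMap_smul (R ⧸ p) a n', show algebraMap R (R ⧸ p) a = c from ha]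
    exact hn
  have hinj : Function.Injective hh := by
    refine (injective_iff_map_eq_zero _).2 fun n hn => ?_
    have h1 : (s • g) n = 0 := by rw [← hhs, LinearMap.comp_apply, hn, map_zero]
    rw [LinearMap.smul_apply] at h1
    have h2 : g n = 0 := by
      funext i
      have h3 : algebraMap (R ⧸ p) K s * g n i = 0 := (Algebra.smul_def _ _).symm.trans (congrFun h1 i)
      exact (mul_eq_zero.1 h3).resolve_left fun h4 =>
        nonZeroDivisors.ne_zero s.2 (IsFractionRing.injective _ _ (h4.trans (map_zero _).symm))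
    have h5 : LocalizedModule.mkLinearMap (nonZeroDivisors (R ⧸ p)) N n = 0 :=
      b.equivFun.injective (h2.trans (map_zero b.equivFun).symm)
    rw [LocalizedModule.mkLinearMap_apply, ← LocalizedModule.zero_mk 1, LocalizedModule.mk_eq] at h5
    obtain ⟨c, hc⟩ := h5
    simp only [one_smul, smul_zero] at hc
    exact hne c (hc.trans (smul_zero _).symm)
  refine lfin_of_injective Z hZ (hh.restrictScalars R) hinj ?_
  suffices hpow : ∀ n : ℕ, LFin Z (Fin n → R ⧸ p) from hpow _
  intro n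
  induction n with
  | zero => exact lfin_of_subsingleton Z hZ _
  | succ n ih =>
    refine lfin_of_ker Z hZ (LinearMap.funLeft R (R ⧸ p) Fin.succ) (lfin_of_injective Z hZ
      ((LinearMap.proj (R := R) (φ := fun _ : Fin (n + 1) => R ⧸ p) 0).comp (Submodule.subtype _))
      (fun a b hab => Subtype.ext (funext fun i => ?_)) h) ih
    induction i using Fin.cases with
    | zero => exact hab
    | succ j => exact (congrFun a.2 j).trans (congrFun b.2 j).symm

/-- A coprimary module. -/
theorem lfin_of_coprimary (p : Ideal R) [p.IsPrime] (h : LFin Z (R ⧸ p)) :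
    ∀ (k : ℕ) (Q : Type u) [AddCommGroup Q] [Module R Q] [Module.Finite R Q],
      (∀ a ∈ p ^ k, ∀ q : Q, a • q = 0) → (∀ a ∉ p, IsSMulRegular Q a) → LFin Z Q := by
  intro k
  induction k with
  | zero =>
    intro Q _ _ _ hk _
    haveI : Subsingleton Q := subsingleton_of_forall_eq 0 fun q => by
      rw [← one_smul R q]; exact hk 1 (by simp) q
    exact lfin_of_subsingleton Z hZ _
  | succ k ih =>
    intro Q _ _ _ hk hreg
    let Q' : Submodule R Q := Submodule.torsionBySet R Q p
    haveI : IsNoetherian R Q := isNoetherian_of_isNoetherianRing_of_finite R Q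
    have hmem : ∀ q, q ∈ Q' ↔ ∀ a ∈ p, a • q = 0 := fun q =>
      (Submodule.mem_torsionBySet_iff _ _).trans ⟨fun h a ha => h ⟨a, ha⟩, fun h a => h a.1 a.2⟩
    refine lfin_of_ker Z hZ Q'.mkQ ?_ (ih _ (fun a ha q => ?_) fun a ha => ?_)
    · rw [Submodule.ker_mkQ]
      exact lfin_of_torsionFree Z hZ p h _ (fun a ha q => Subtype.ext ((hmem _).1 q.2 a ha))
        fun a ha q q' hqq => Subtype.ext (hreg a ha (congrArg Subtype.val hqq))
    · obtain ⟨q, rfl⟩ := Submodule.Quotient.mk_surjective _ q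
      rw [← Submodule.Quotient.mk_smul, Submodule.Quotient.mk_eq_zero, hmem]
      intro b hb
      rw [smul_smul]
      exact hk _ (by rw [pow_succ']; exact Ideal.mul_mem_mul hb ha) q
    · refine isSMulRegular_iff_right_eq_zero_of_smul.2 fun q hq => ?_
      obtain ⟨q, rfl⟩ := Submodule.Quotient.mk_surjective _ q
      rw [← Submodule.Quotient.mk_smul, Submodule.Quotient.mk_eq_zero, hmem] at hq
      rw [Submodule.Quotient.mk_eq_zero, hmem]
      intro b hb
      refine isSMulRegular_iff_right_eq_zero_of_smul.1 (hreg a ha) _ ?_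
      rw [smul_comm, hq b hb]

/-- Finiteness by dévissage to the quotients by the associated primes. -/
theorem lfin_of_assPrimes (M : Type u) [AddCommGroup M] [Module R M] [Module.Finite R M]
    (h : ∀ (p : Ideal R) [p.IsPrime], p ∈ associatedPrimes R M → LFin Z (R ⧸ p)) : LFin Z M := by
  classical
  suffices ∀ (n : ℕ) (M : Type u) [AddCommGroup M] [Module R M] [Module.Finite R M],
      (associatedPrimes R M).ncard = n →
      (∀ (p : Ideal R) [p.IsPrime], p ∈ associatedPrimes R M → LFin Z (R ⧸ p)) → LFin Z M from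
    this _ M rfl h
  intro n
  induction n using Nat.strong_induction_on with
  | _ n ih =>
  intro M _ _ _ hn h
  rcases subsingleton_or_nontrivial M with hM | hM
  · exact lfin_of_subsingleton Z hZ M
  have hfin : (associatedPrimes R M).Finite := associatedPrimes.finite R M
  obtain ⟨p, hp, hmin⟩ := hfin.exists_minimal (associatedPrimes.nonempty R M)
  haveI : p.IsPrime := hp.isPrime
  let g := LocalizedModule.mkLinearMap p.primeCompl M
  have hker : ∀ m, m ∈ LinearMap.ker g ↔ ∃ s : R, s ∉ p ∧ s • m = 0 := fun m => by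
    rw [LinearMap.mem_ker, IsLocalizedModule.eq_zero_iff p.primeCompl g]
    exact ⟨fun ⟨c, hc⟩ => ⟨c, c.2, hc⟩, fun ⟨c, hc, hcm⟩ => ⟨⟨c, hc⟩, hcm⟩⟩
  have hreg : ∀ a ∉ p, IsSMulRegular (M ⧸ LinearMap.ker g) a := fun a ha => by
    refine isSMulRegular_iff_right_eq_zero_of_smul.2 fun q hq => ?_
    obtain ⟨q, rfl⟩ := Submodule.Quotient.mk_surjective _ q
    rw [← Submodule.Quotient.mk_smul, Submodule.Quotient.mk_eq_zero, hker] at hq
    rw [Submodule.Quotient.mk_eq_zero, hker]
    obtain ⟨s, hs, hsq⟩ := hq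
    exact ⟨s * a, fun h => (‹p.IsPrime›.mem_or_mem h).elim hs ha, by rw [mul_smul, hsq]⟩
  haveI : IsNoetherian R M := isNoetherian_of_isNoetherianRing_of_finite R M
  refine lfin_of_ker Z hZ (LinearMap.ker g).mkQ ?_ ?_
  · rw [Submodule.ker_mkQ]
    have hsub : associatedPrimes R (LinearMap.ker g) ⊆ associatedPrimes R M \ {p} := fun P hP =>
      ⟨associatedPrimes.subset_of_injective (Submodule.injective_subtype _) hP, fun (hPp : P = p) => by
        obtain ⟨hPr, m, hm⟩ := isAssociatedPrime_iff.1 hP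
        obtain ⟨s, hs, hsm⟩ := (hker _).1 m.2
        refine hs ?_
        rw [← hPp, hm, Submodule.mem_colon_singleton, Submodule.mem_bot]
        exact Subtype.ext hsm⟩
    refine ih _ ?_ _ rfl fun P _ hP => h P (hsub hP).1
    rw [← hn]
    exact lt_of_le_of_lt (Set.ncard_le_ncard hsub (hfin.subset Set.diff_subset))
      (Set.ncard_diff_singleton_lt_of_mem hp hfin)
  · have hrad : p ≤ (Module.annihilator R (M ⧸ LinearMap.ker g)).radical := by
      rw [← Ideal.sInf_minimalPrimes]
      refine le_sInf fun P hP => ?_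
      have hPass := Module.associatedPrimes.minimalPrimes_annihilator_subset_associatedPrimes R _ hP
      haveI := hPass.isPrime
      have hPp : P ≤ p := fun a ha => by
        by_contra hap
        obtain ⟨-, q, hq⟩ := isAssociatedPrime_iff.1 hPass
        have h0 : a • q = 0 := by rwa [hq, Submodule.mem_colon_singleton, Submodule.mem_bot] at ha
        have hq0 : q = 0 := isSMulRegular_iff_right_eq_zero_of_smul.1 (hreg a hap) q h0
        refine hPass.isPrime.ne_top (hq.trans (eq_top_iff.2 fun c _ => ?_))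
        rw [Submodule.mem_colon_singleton, hq0, smul_zero]; exact Submodule.zero_mem _
      have hann : Module.annihilator R M ≤ P := (LinearMap.annihilator_le_of_surjective (LinearMap.ker g).mkQ
        (Submodule.mkQ_surjective _)).trans hP.1.2
      obtain ⟨P₀, hP₀, hP₀P⟩ := Ideal.exists_minimalPrimes_le hann
      exact ((hmin (Module.associatedPrimes.minimalPrimes_annihilator_subset_associatedPrimes R M hP₀) (hP₀P.trans hPp)).trans hP₀P)
    obtain ⟨k, hk⟩ := Ideal.exists_pow_le_of_le_radical_of_fg hrad (IsNoetherian.noetherian p)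
    exact lfin_of_coprimary Z hZ p (h p hp) k _
      (fun a ha q => Module.mem_annihilator.1 (hk ha) q) hreg

end Groth.Agent.ZClos5
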