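import Groth.Agent.Lib.ZClos5.Support
import Groth.Agent.Lib.PullBC11.Crit
import Groth.Agent.S5840
import Groth.Agent.S5841

/-!
# The `Z`-closure on an affine scheme, read on global sections
-/

set_option autoImplicit false
set_option backward.isDefEq.respectTransparency false

universe u

open CategoryTheory CategoryTheory.Limits AlgebraicGeometry TopologicalSpace Opposite

namespace Groth.Agent.ZClos5

open Groth.Agent Groth.Agent.M1

variable {R : CommRingCat.{u}}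

/-- The germ at `x` of an element of the ring. -/
noncomputable def germR (x : (Spec R : Scheme.{u})) (r : R) : (Spec R).presheaf.stalk x :=
  (Spec R).presheaf.germ ⊤ x trivial ((Scheme.ΓSpecIso R).inv r)

theorem isUnit_germR_iff (x : (Spec R : Scheme.{u})) (r : R) : IsUnit (germR x r) ↔ r ∉ x.asIdeal := by
  refine (((Spec R).mem_basicOpen (U := ⊤) ((Scheme.ΓSpecIso R).inv r) x trivial).symm).trans ?_
  rw [AlgebraicGeometry.basicOpen_eq_of_affine]
  rfl

variable (G : (Spec R).Modules)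

theorem germ_smul_spec (x : (Spec R : Scheme.{u})) (r : R) (m : Γ(G, ⊤)) :
    G.presheaf.germ ⊤ x trivial (r • m) = germR x r • (G.presheaf.germ ⊤ x trivial m : G.presheaf.stalk x) := by
  rw [Scheme.Modules.smul_Spec_def]
  refine (M1.germ_smul G (U := ⊤) trivial _ m).trans ?_
  unfold germR
  rw [TopCat.Presheaf.germ_res_apply]

theorem germ_eq_zero_of_smul {x : (Spec R : Scheme.{u})} {r : R} (hr : r ∉ x.asIdeal) {m : Γ(G, ⊤)} (h : r • m = 0) :
    G.presheaf.germ ⊤ x trivial m = 0 := by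
  have h1 := germ_smul_spec G x r m
  rw [h, map_zero] at h1
  exact ((isUnit_germR_iff x r).2 hr).smul_eq_zero.1 h1.symm

variable [Coh.IsQCoh G]

theorem exists_smul_eq_zero (x : (Spec R : Scheme.{u})) (m : Γ(G, ⊤))
    (h : G.presheaf.germ ⊤ x trivial m = 0) : ∃ r : R, r ∉ x.asIdeal ∧ r • m = 0 := by
  obtain ⟨c, hc, hcm⟩ := M1.exists_smul_eq_zero_of_germ_eq_zero G (isAffineOpen_top (Spec R)) (x := x) trivial m h
  refine ⟨(Scheme.ΓSpecIso R).hom c, (isUnit_germR_iff x _).1 ?_, ?_⟩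
  · unfold germR
    rwa [Iso.hom_inv_id_apply]
  · rw [Scheme.Modules.smul_Spec_def, Iso.hom_inv_id_apply]
    refine (congrArg (· • m) ?_).trans hcm
    exact M1.ores_id le_rfl c

theorem exists_germ_smul (x : (Spec R : Scheme.{u})) (a : (G.presheaf.stalk x : Type u)) :
    ∃ r : R, r ∉ x.asIdeal ∧ ∃ m : Γ(G, ⊤), germR x r • a = G.presheaf.germ ⊤ x trivial m := by
  obtain ⟨c, m, hc, hcm⟩ := M1.exists_germ_smul_eq G (isAffineOpen_top (Spec R)) (x := x) trivial a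
  refine ⟨(Scheme.ΓSpecIso R).hom c, (isUnit_germR_iff x _).1 ?_, m, ?_⟩ <;> unfold germR <;>
    rw [Iso.hom_inv_id_apply]
  exacts [hc, hcm]

omit [Coh.IsQCoh G] in
theorem app_smul {G' : (Spec R).Modules} (φ : G ⟶ G') (r : R) (m : Γ(G, ⊤)) :
    φ.app ⊤ (r • m) = r • φ.app ⊤ m :=
  (moduleSpecΓFunctor.map φ).hom.map_smul r m

omit [Coh.IsQCoh G] in
theorem germ_app {G' : (Spec R).Modules} (φ : G ⟶ G') (x : (Spec R : Scheme.{u})) (m : Γ(G, ⊤)) :
    PullBC11.stk φ x (G.presheaf.germ ⊤ x trivial m) = G'.presheaf.germ ⊤ x trivial (φ.app ⊤ m) :=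
  TopCat.Presheaf.stalkFunctor_map_germ_apply ⊤ x trivial φ.mapPresheaf m

/-- A map of quasi-coherent modules which is bijective on global sections up to localisation at `x` is bijective
on the stalk at `x`. -/
theorem bijective_stalk_of_sections {G' : (Spec R).Modules} [Coh.IsQCoh G'] (φ : G ⟶ G') (x : (Spec R : Scheme.{u}))
    (h₁ : ∀ m, φ.app ⊤ m = 0 → ∃ r : R, r ∉ x.asIdeal ∧ r • m = 0)
    (h₂ : ∀ n, ∃ r : R, r ∉ x.asIdeal ∧ ∃ m, φ.app ⊤ m = r • n) :
    Function.Bijective ((TopCat.Presheaf.stalkFunctor (C := Ab.{u}) x).map φ.mapPresheaf) := by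
  show Function.Bijective (PullBC11.stk φ x)
  refine ⟨(injective_iff_map_eq_zero _).2 fun a ha => ?_, fun b => ?_⟩
  · obtain ⟨r, hr, m, hm⟩ := exists_germ_smul G x a
    have h3 : G'.presheaf.germ ⊤ x trivial (φ.app ⊤ m) = 0 := by
      rw [← germ_app, ← hm, PullBC11.stalk_map_smul, ha, smul_zero]
    obtain ⟨c, hc, hcm⟩ := exists_smul_eq_zero G' x _ h3
    obtain ⟨d, hd, hdm⟩ := h₁ (c • m) (by rw [app_smul, hcm])
    rw [smul_smul] at hdm
    have h4 := germ_eq_zero_of_smul G (r := d * c) (fun h => (x.isPrime.mem_or_mem h).elim hd hc) hdm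
    rw [← hm] at h4
    exact ((isUnit_germR_iff x r).2 hr).smul_eq_zero.1 h4
  · obtain ⟨r, hr, n, hn⟩ := exists_germ_smul G' x b
    obtain ⟨d, hd, m, hm⟩ := h₂ n
    let w := ((isUnit_germR_iff x d).2 hd).mul ((isUnit_germR_iff x r).2 hr)
    refine ⟨(w.unit⁻¹ : ((Spec R).presheaf.stalk x)ˣ).1 • G.presheaf.germ ⊤ x trivial m, ?_⟩
    rw [PullBC11.stalk_map_smul, germ_app, hm, germ_smul_spec, ← hn, smul_smul, smul_smul, mul_assoc, IsUnit.val_inv_mul,
      one_smul]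

variable [IsNoetherianRing R] (Z : Set (Spec R : Scheme.{u})) (hZ : StableUnderSpecialization Z)
include hZ

/-- Outside `Z`, a section of the closure is a fraction of a section. -/
theorem exists_smul_eq_rho (s : Γ((ZClos.H0 Z).obj G, ⊤)) (x : (Spec R : Scheme.{u})) (hx : x ∉ Z) :
    ∃ r : R, r ∉ x.asIdeal ∧ ∃ m : Γ(G, ⊤), r • s = (ZClos.rhoApp Z G).app ⊤ m := by
  let H := (ZClos.H0 Z).obj G
  haveI : Coh.IsQCoh H := Groth.Agent.S5841.result _ Z hZ G inferInstance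
  obtain ⟨a, ha⟩ : ∃ a, PullBC11.stk (ZClos.rhoApp Z G) x a = H.presheaf.germ ⊤ x trivial s :=
    (bijective_rhoStalk Z hZ G hx).2 _
  obtain ⟨r, hr, m, hm⟩ := exists_germ_smul G x a
  have h0 : H.presheaf.germ ⊤ x trivial (r • s - (ZClos.rhoApp Z G).app ⊤ m) = 0 := by
    rw [map_sub, germ_smul_spec, ← ha, ← PullBC11.stalk_map_smul, hm, germ_app, sub_self]
  obtain ⟨c, hc, hcs⟩ := exists_smul_eq_zero H x _ h0
  refine ⟨c * r, fun h => (x.isPrime.mem_or_mem h).elim hc hr, c • m, ?_⟩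
  rw [smul_sub, sub_eq_zero] at hcs
  rw [app_smul, ← hcs, mul_smul]

theorem exists_smul_eq_zero_of_rho (m : Γ(G, ⊤)) (hm : (ZClos.rhoApp Z G).app ⊤ m = 0)
    (x : (Spec R : Scheme.{u})) (hx : x ∉ Z) : ∃ r : R, r ∉ x.asIdeal ∧ r • m = 0 := by
  refine exists_smul_eq_zero G x m ((bijective_rhoStalk Z hZ G hx).1 ?_)
  show PullBC11.stk (ZClos.rhoApp Z G) x _ = PullBC11.stk (ZClos.rhoApp Z G) x 0
  rw [germ_app, hm, map_zero, map_zero]

omit [Coh.IsQCoh G] in
theorem eq_zero_of_forall_smul (s : Γ((ZClos.H0 Z).obj G, ⊤))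
    (h : ∀ x : (Spec R : Scheme.{u}), x ∉ Z → ∃ r : R, r ∉ x.asIdeal ∧ r • s = 0) : s = 0 := by
  obtain ⟨T, hT⟩ := exists_support Z hZ ((ZClos.H0 Z).obj G) ⊤ s fun x _ hxZ => by
    obtain ⟨r, hr, hrs⟩ := h x hxZ
    exact germ_eq_zero_of_smul _ hr hrs
  exact ((isZClosed_iff Z _).1 (isZClosed_H0 Z hZ G) T ⊤).1 (hT.trans (map_zero _).symm)

omit [Coh.IsQCoh G] hZ

/-- `Γ(H⁰_Z(M~))` as a functor of `M`. -/
noncomputable def secH0 : ModuleCat.{u} R ⥤ ModuleCat.{u} R :=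
  tilde.functor R ⋙ ZClos.H0 Z ⋙ moduleSpecΓFunctor

omit G in
/-- The canonical map `M → Γ(H⁰_Z(M~))`. -/
noncomputable def secRho (M : ModuleCat.{u} R) : M ⟶ (secH0 Z).obj M :=
  (tilde.isoTop M).hom ≫ moduleSpecΓFunctor.map ((ZClos.rho Z).app ((tilde.functor R).obj M))

omit G in
theorem secRho_naturality {M N : ModuleCat.{u} R} (f : M ⟶ N) :
    secRho Z M ≫ (secH0 Z).map f = f ≫ secRho Z N := by
  show (tilde.toOpen M ⊤ ≫ moduleSpecΓFunctor.map _) ≫ moduleSpecΓFunctor.map _ = f ≫ tilde.toOpen N ⊤ ≫ _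
  rw [Category.assoc, ← Functor.map_comp,
    show (ZClos.rho Z).app ((tilde.functor R).obj M) ≫ (ZClos.H0 Z).map ((tilde.functor R).map f) =
      (tilde.functor R).map f ≫ (ZClos.rho Z).app ((tilde.functor R).obj N) from ((ZClos.rho Z).naturality _).symm,
    Functor.map_comp, ← Category.assoc f, ← tilde.toOpen_map_app f ⊤, Category.assoc]
  rfl

omit G in
theorem isQCoh_tilde (M : ModuleCat.{u} R) : Coh.IsQCoh ((tilde.functor R).obj M) :=
  inferInstanceAs (Coh.IsQCoh (tilde M))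

omit G in
theorem exists_app_eq (M : ModuleCat.{u} R) (m : Γ((tilde.functor R).obj M, ⊤)) :
    ∃ m₀ : M, (tilde.isoTop M).hom m₀ = m :=
  ⟨(tilde.isoTop M).inv m, Iso.inv_hom_id_apply (tilde.isoTop M) m⟩

include hZ

omit G in
theorem secH0_smul_eq (M : ModuleCat.{u} R) (s : (secH0 Z).obj M) (x : (Spec R : Scheme.{u})) (hx : x ∉ Z) :
    ∃ r : R, r ∉ x.asIdeal ∧ ∃ m : M, r • s = secRho Z M m := by
  haveI := isQCoh_tilde M
  obtain ⟨r, hr, m, hm⟩ := exists_smul_eq_rho ((tilde.functor R).obj M) Z hZ s x hx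
  obtain ⟨m₀, rfl⟩ := exists_app_eq M m
  exact ⟨r, hr, m₀, hm⟩

omit G in
theorem secH0_eq_zero (M : ModuleCat.{u} R) (s : (secH0 Z).obj M)
    (h : ∀ x : (Spec R : Scheme.{u}), x ∉ Z → ∃ r : R, r ∉ x.asIdeal ∧ r • s = 0) : s = 0 :=
  eq_zero_of_forall_smul ((tilde.functor R).obj M) Z hZ s h

omit G in
theorem secRho_eq_zero (M : ModuleCat.{u} R) (m : M) (hm : secRho Z M m = 0) (x : (Spec R : Scheme.{u}))
    (hx : x ∉ Z) : ∃ r : R, r ∉ x.asIdeal ∧ r • m = 0 := by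
  haveI := isQCoh_tilde M
  obtain ⟨r, hr, hrm⟩ := exists_smul_eq_zero_of_rho ((tilde.functor R).obj M) Z hZ ((tilde.isoTop M).hom m) hm x hx
  refine ⟨r, hr, (tilde.isoTop M).toLinearEquiv.injective ?_⟩
  show (tilde.isoTop M).hom (r • m) = (tilde.isoTop M).hom 0
  rw [map_smul, map_zero]
  exact hrm

omit G in
theorem bijective_secH0_map {M N : ModuleCat.{u} R} (f : M ⟶ N)
    (h : ∀ x : (Spec R : Scheme.{u}), x ∉ Z →
      (∀ m, f m = 0 → ∃ r : R, r ∉ x.asIdeal ∧ r • m = 0) ∧ ∀ n, ∃ r : R, r ∉ x.asIdeal ∧ ∃ m, f m = r • n) :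
    Function.Bijective ((secH0 Z).map f) := by
  haveI := isQCoh_tilde M
  haveI := isQCoh_tilde N
  have hnat : ∀ m : M, ((tilde.functor R).map f).app ⊤ ((tilde.isoTop M).hom m) = (tilde.isoTop N).hom (f m) :=
    fun m => congr($(tilde.toOpen_map_app f ⊤).hom m)
  haveI : IsIso ((ZClos.H0 Z).map ((tilde.functor R).map f)) := by
    refine isIso_map Z hZ _ fun x hx => bijective_stalk_of_sections _ _ x (fun m hm => ?_) fun n => ?_
    · obtain ⟨m₀, rfl⟩ := exists_app_eq M m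
      obtain ⟨r, hr, hrm⟩ := (h x hx).1 m₀ ((tilde.isoTop N).toLinearEquiv.injective
        (((hnat m₀).symm.trans hm).trans (map_zero (tilde.isoTop N).hom.hom).symm))
      refine ⟨r, hr, ?_⟩
      show r • (tilde.isoTop M).hom m₀ = 0
      rw [← map_smul, hrm, map_zero]
    · obtain ⟨n₀, rfl⟩ := exists_app_eq N n
      obtain ⟨r, hr, m, hm⟩ := (h x hx).2 n₀
      refine ⟨r, hr, (tilde.isoTop M).hom m, ?_⟩
      rw [hnat, hm, map_smul]
  haveI : IsIso ((secH0 Z).map f) :=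
    inferInstanceAs (IsIso (moduleSpecΓFunctor.map ((ZClos.H0 Z).map ((tilde.functor R).map f))))
  exact ConcreteCategory.bijective_of_isIso _

end Groth.Agent.ZClos5
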