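import Groth.Agent.Lib.ZClos5.Locus
import Mathlib.RingTheory.KrullDimension.NonZeroDivisors

/-!
# Finiteness of `H⁰` forces codimension two along `Z` inside the closures of associated points
-/

set_option autoImplicit false
set_option backward.isDefEq.respectTransparency false

universe u

open CategoryTheory CategoryTheory.Limits AlgebraicGeometry TopologicalSpace Opposite

namespace Groth.Agent.ZClos5

open Groth.Agent Groth.Agent.M1 Groth.Agent.WA

theorem two_le_ringKrullDim_quotient {R : Type u} [CommRing R] (I : Ideal R) (p₀ p₁ p₂ : PrimeSpectrum R)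
    (hI : I ≤ p₀.asIdeal) (h₀ : p₀ < p₁) (h₁ : p₁ < p₂) : (2 : WithBot ℕ∞) ≤ ringKrullDim (R ⧸ I) := by
  rw [ringKrullDim_quotient]
  let s : LTSeries (PrimeSpectrum.zeroLocus (R := R) (I : Set R)) :=
    LTSeries.mk 2 ![⟨p₀, hI⟩, ⟨p₁, hI.trans h₀.le⟩, ⟨p₂, hI.trans (h₀.le.trans h₁.le)⟩]
      (Fin.strictMono_iff_lt_succ.2 fun i => by fin_cases i <;> assumption)
  refine le_trans ?_ (Order.LTSeries.length_le_krullDim s)
  exact le_rfl

variable {X : Scheme.{u}} [IsLocallyNoetherian X]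

theorem two_le_dim_quot (Z : Set X) (hZ : StableUnderSpecialization Z) (F : X.Modules) (hF : Coh.IsCoh F)
    (hH : Coh.IsCoh ((ZClos.H0 Z).obj F)) (x : X) (hx : x ∈ AssSch.Ass F) (hxZ : x ∉ Z) (y : X) (hy : y ∈ Z)
    (h : x ⤳ y) :
    (2 : WithBot ℕ∞) ≤ ringKrullDim (X.presheaf.stalk y ⧸
      (IsLocalRing.maximalIdeal (X.presheaf.stalk x)).comap (X.presheaf.stalkSpecializes h).hom) := by
  classical
  by_contra hdim
  haveI := hF.1
  obtain ⟨V₀, hV₀, hyV₀, -⟩ := exists_isAffineOpen_mem_and_subset (x := y) (U := (⊤ : X.Opens)) trivial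
  have hxV₀ : x ∈ V₀ := h.mem_open V₀.2 hyV₀
  haveI : IsNoetherianRing Γ(X, V₀) := IsLocallyNoetherian.component_noetherian ⟨V₀, hV₀⟩
  obtain ⟨t, ht, hP⟩ := exists_section_weakAss hV₀ hxV₀ (AssPts11.mem_ass_iff.1 hx)
  let Px := hV₀.primeIdealOf ⟨x, hxV₀⟩
  let Py := hV₀.primeIdealOf ⟨y, hyV₀⟩
  letI := TopCat.Presheaf.algebra_section_stalk X.presheaf (⟨y, hyV₀⟩ : V₀)
  haveI := hV₀.isLocalization_stalk ⟨y, hyV₀⟩
  let g := algebraMap Γ(X, V₀) (X.presheaf.stalk y)
  -- primes between the point `x` and the point `y`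
  let e := IsLocalization.AtPrime.primeSpectrumOrderIso (X.presheaf.stalk y) Py.asIdeal
  have hcomap : ((IsLocalRing.maximalIdeal (X.presheaf.stalk x)).comap (X.presheaf.stalkSpecializes h).hom).comap g =
      Px.asIdeal := by
    ext a
    have hg : (X.presheaf.stalkSpecializes h) (g a) = X.presheaf.germ V₀ x hxV₀ a :=
      TopCat.Presheaf.germ_stalkSpecializes_apply X.presheaf hyV₀ h a
    rw [Ideal.mem_comap, Ideal.mem_comap, IsLocalRing.mem_maximalIdeal, mem_nonunits_iff]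
    show ¬ IsUnit ((X.presheaf.stalkSpecializes h) (g a)) ↔ _
    rw [hg, M1.isUnit_germ_iff hV₀ hxV₀]
    exact not_not
  have hPxy : Px.asIdeal ≤ Py.asIdeal := fun a ha => by
    by_contra hn
    have hu := (M1.isUnit_germ_iff hV₀ hyV₀ a).2 hn
    have := hu.map (X.presheaf.stalkSpecializes h).hom
    rw [show (X.presheaf.stalkSpecializes h).hom (X.presheaf.germ V₀ y hyV₀ a) = X.presheaf.germ V₀ x hxV₀ a from
      TopCat.Presheaf.germ_stalkSpecializes_apply X.presheaf hyV₀ h a] at this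
    exact (M1.isUnit_germ_iff hV₀ hxV₀ a).1 this ha
  have hne : Px ≠ Py := fun e' => hxZ (by
    have := congrArg hV₀.fromSpec e'
    rw [hV₀.fromSpec_primeIdealOf, hV₀.fromSpec_primeIdealOf] at this
    exact (show x = y from this) ▸ hy)
  have hlt : Px < Py := lt_of_le_of_ne hPxy hne
  obtain ⟨a, hay, hax⟩ := Set.exists_of_ssubset (show (Px.asIdeal : Set Γ(X, V₀)) ⊂ Py.asIdeal from
    SetLike.coe_ssubset_coe.2 hlt)
  -- no prime strictly between `Px + (a)` and `Py`
  have hmin : ∀ q : PrimeSpectrum Γ(X, V₀), Px.asIdeal ≤ q.asIdeal → a ∈ q.asIdeal → q.asIdeal ≤ Py.asIdeal → q = Py := by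
    intro q hxq haq hqy
    by_contra hqne
    have h01 : Px < q := lt_of_le_of_ne hxq fun e' => hax (e' ▸ haq)
    have h12 : q < Py := lt_of_le_of_ne hqy hqne
    let r₀ := e.symm ⟨Px, hPxy⟩
    let r₁ := e.symm ⟨q, hqy⟩
    let r₂ := e.symm ⟨Py, le_refl Py.asIdeal⟩
    refine hdim (two_le_ringKrullDim_quotient _ r₀ r₁ r₂ ?_ (e.symm.strictMono h01) (e.symm.strictMono h12))
    have hr₀ : r₀.asIdeal.comap g = Px.asIdeal := congrArg (fun p => p.1.asIdeal) (e.apply_symm_apply ⟨Px, hPxy⟩)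
    rw [← IsLocalization.map_under Py.asIdeal.primeCompl (X.presheaf.stalk y) r₀.asIdeal]
    refine (IsLocalization.map_under Py.asIdeal.primeCompl (X.presheaf.stalk y) _).symm.trans_le (Ideal.map_mono ?_)
    exact hcomap.trans_le hr₀.ge
  -- an affine-free neighbourhood where `closure x ∖ D(a)` is in the closure of `y`
  let I : Ideal Γ(X, V₀) := Px.asIdeal ⊔ Ideal.span {a}
  have hfin : I.minimalPrimes.Finite := Ideal.finite_minimalPrimes_of_isNoetherianRing _ I
  let S : Set (Ideal Γ(X, V₀)) := {q ∈ I.minimalPrimes | ¬ q ≤ Py.asIdeal}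
  have hS : ∀ q : S, ∃ c : Γ(X, V₀), c ∈ q.1 ∧ c ∉ Py.asIdeal := fun q => SetLike.not_le_iff_exists.1 q.2.2
  choose c hcq hcy using hS
  haveI : Fintype S := (hfin.subset fun q hq => hq.1).fintype
  let C : Γ(X, V₀) := ∏ q, c q
  have hCy : C ∉ Py.asIdeal := fun hC => by
    obtain ⟨q, -, hq⟩ := Py.2.prod_mem_iff.1 hC
    exact hcy q hq
  have hW : IsAffineOpen (X.basicOpen C) := hV₀.basicOpen C
  let W : X.Opens := X.basicOpen C
  have hWV : W ≤ V₀ := X.basicOpen_le C
  have hyW : y ∈ W := (X.mem_basicOpen C y hyV₀).2 ((M1.isUnit_germ_iff hV₀ hyV₀ C).2 hCy)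
  have hxW : x ∈ W := h.mem_open W.2 hyW
  let T : ZClos.Cl Z := ⟨⟨closure {y}, isClosed_closure⟩, fun _ hz => hZ (specializes_iff_mem_closure.2 hz) hy⟩
  -- the two pieces covering `W ∖ T`
  let D : X.Opens := W ⊓ X.basicOpen a
  let E : X.Opens := W ⊓ ⟨(closure {x})ᶜ, isClosed_closure.isOpen_compl⟩
  have hcov : W ⊓ T.U ≤ D ⊔ E := by
    rintro z ⟨hzW, hzT⟩
    by_contra hz
    have hza : z ∉ X.basicOpen a := fun h' => hz (Or.inl ⟨hzW, h'⟩)
    have hxz : x ⤳ z := by
      by_contra h'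
      exact hz (Or.inr ⟨hzW, fun hmem => h' (specializes_iff_mem_closure.2 hmem)⟩)
    let Pz := hV₀.primeIdealOf ⟨z, hWV hzW⟩
    have hPxz : Px.asIdeal ≤ Pz.asIdeal := fun b hb => by
      by_contra hn
      have hu := ((M1.isUnit_germ_iff hV₀ (hWV hzW) b).2 hn).map (X.presheaf.stalkSpecializes hxz).hom
      rw [show (X.presheaf.stalkSpecializes hxz).hom (X.presheaf.germ V₀ z (hWV hzW) b) = X.presheaf.germ V₀ x hxV₀ b from
        TopCat.Presheaf.germ_stalkSpecializes_apply X.presheaf (hWV hzW) hxz b] at hu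
      exact (M1.isUnit_germ_iff hV₀ hxV₀ b).1 hu hb
    have haz : a ∈ Pz.asIdeal := by
      by_contra hn
      exact hza ((X.mem_basicOpen a z (hWV hzW)).2 ((M1.isUnit_germ_iff hV₀ (hWV hzW) a).2 hn))
    obtain ⟨q, hq, hqz⟩ := Ideal.exists_minimalPrimes_le
      (show I ≤ Pz.asIdeal from sup_le hPxz ((Ideal.span_singleton_le_iff_mem _).2 haz))
    have hqy : q ≤ Py.asIdeal := by
      by_contra hn
      have hC : C ∈ Pz.asIdeal :=
        hqz (Ideal.mem_of_dvd _ (Finset.dvd_prod_of_mem c (Finset.mem_univ (⟨q, hq, hn⟩ : S))) (hcq ⟨q, hq, hn⟩))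
      exact (M1.isUnit_germ_iff hV₀ (hWV hzW) C).1 ((X.mem_basicOpen C z (hWV hzW)).1 hzW) hC
    have hIq : I ≤ q := hq.1.2
    have := hmin ⟨q, hq.1.1⟩ (le_sup_left.trans hIq)
      (hIq (le_sup_right (a := Px.asIdeal) (Ideal.subset_span rfl))) hqy
    refine hzT (show z ∈ closure {y} from specializes_iff_mem_closure.1 ?_)
    refine specializes_of_isUnit hV₀ (hWV hzW) hyV₀ fun b hb => (M1.isUnit_germ_iff hV₀ hyV₀ b).2 ?_
    intro hby
    refine (M1.isUnit_germ_iff hV₀ (hWV hzW) b).1 hb (hqz ?_)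
    exact (congrArg PrimeSpectrum.asIdeal this).ge hby
  have hzero : mres F (inf_le_left.trans hWV : E ≤ V₀) t = 0 := by
    refine M1.section_ext _ _ fun z hz => ?_
    rw [map_zero, M1.germ_mres]
    exact germ_eq_zero_of_not_specializes F hV₀ hxV₀ (hWV hz.1) t hP.le
      fun h' => hz.2 (specializes_iff_mem_closure.1 h')
  let ad : Γ(X, D) := ores (inf_le_left.trans hWV : D ≤ V₀) a
  have had : IsUnit ad := by
    show IsUnit (ores (inf_le_left.trans hWV : D ≤ V₀) a)
    rw [← ores_ores (X.basicOpen_le a) (inf_le_right : D ≤ X.basicOpen a)]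
    exact (X.toRingedSpace.isUnit_res_basicOpen a).map _
  let u : ℕ → Γ(F, D) := fun n => ((↑had.unit⁻¹ : Γ(X, D)) ^ n) • mres F (inf_le_left.trans hWV : D ≤ V₀) t
  have hu : ∀ n, ad • u (n + 1) = u n := fun n => by
    show ad • (((↑had.unit⁻¹ : Γ(X, D)) ^ (n + 1)) • mres F _ t) = ((↑had.unit⁻¹ : Γ(X, D)) ^ n) • mres F _ t
    rw [pow_succ', mul_smul, smul_smul, had.mul_val_inv, one_smul]
  have hED : ∀ n, mres F (inf_le_left : D ⊓ E ≤ D) (u n) = 0 := fun n => by
    simp only [u]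
    rw [mres_smul, mres_mres, ← mres_mres F (inf_le_left.trans hWV : E ≤ V₀) inf_le_right, hzero, map_zero, smul_zero]
  have hglue : ∀ n, ∃ v : Γ(F, W ⊓ T.U), mres F (inf_le_right : D ⊓ (W ⊓ T.U) ≤ W ⊓ T.U) v =
      mres F inf_le_left (u n) ∧ mres F (inf_le_right : E ⊓ (W ⊓ T.U) ≤ W ⊓ T.U) v = 0 := by
    intro n
    let O : Bool → X.Opens := fun b => cond b (D ⊓ (W ⊓ T.U)) (E ⊓ (W ⊓ T.U))
    obtain ⟨v, hv, -⟩ := TopCat.Sheaf.existsUnique_gluing' (F := ⟨_, F.isSheaf⟩) O (W ⊓ T.U)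
      (fun b => homOfLE (by cases b <;> exact inf_le_right))
      (fun z hz => Opens.mem_iSup.2 ((hcov hz).elim (fun h' => ⟨true, h', hz⟩) (fun h' => ⟨false, h', hz⟩)))
      (fun b => match b with
        | true => mres F inf_le_left (u n)
        | false => 0)
      (fun b b' => by
        cases b <;> cases b'
        · rfl
        · show mres F inf_le_left (0 : Γ(F, E ⊓ (W ⊓ T.U))) = mres F inf_le_right (mres F inf_le_left (u n))
          rw [map_zero, mres_mres, ← mres_mres F (inf_le_left : D ⊓ E ≤ D)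
            (le_inf (inf_le_right.trans inf_le_left) (inf_le_left.trans inf_le_left)), hED, map_zero]
        · show mres F inf_le_left (mres F inf_le_left (u n)) = mres F inf_le_right (0 : Γ(F, E ⊓ (W ⊓ T.U)))
          rw [map_zero, mres_mres, ← mres_mres F (inf_le_left : D ⊓ E ≤ D)
            (le_inf (inf_le_left.trans inf_le_left) (inf_le_right.trans inf_le_left)), hED, map_zero]
        · rfl)
    exact ⟨v, hv true, hv false⟩
  choose v hvD hvE using hglue
  have hv : ∀ n, ores (inf_le_left.trans hWV : W ⊓ T.U ≤ V₀) a • v (n + 1) = v n := fun n => by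
    refine M1.modules_eq_of_locally_eq F _ (fun b : Bool => cond b (D ⊓ (W ⊓ T.U)) (E ⊓ (W ⊓ T.U)))
      (fun b => by cases b <;> exact inf_le_right)
      (fun z hz => Opens.mem_iSup.2 ((hcov hz).elim (fun h' => ⟨true, h', hz⟩) (fun h' => ⟨false, h', hz⟩)))
      _ _ fun b => ?_
    cases b
    · show mres F inf_le_right (_ • v (n + 1)) = mres F inf_le_right (v n)
      rw [mres_smul, hvE, hvE, smul_zero]
    · show mres F inf_le_right (_ • v (n + 1)) = mres F inf_le_right (v n)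
      rw [mres_smul, hvD, hvD]
      refine Eq.trans ?_ (congrArg _ (hu n))
      refine Eq.trans ?_ (mres_smul F inf_le_left ad (u (n + 1))).symm
      congr 1
      exact (ores_ores _ _ a).trans (ores_ores _ _ a).symm
  let H := (ZClos.H0 Z).obj F
  have hcl : Closd Z H := (isZClosed_iff Z H).1 (isZClosed_H0 Z hZ F)
  choose σ hσ using fun n => (hcl T W).2 ((ZClos.rhoApp Z F).app (W ⊓ T.U) (v n))
  have hrec : ∀ n, ores hWV a • σ (n + 1) = σ n := fun n => (hcl T W).1 (by
    show mres H inf_le_left (ores hWV a • σ (n + 1)) = mres H inf_le_left (σ n)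
    rw [mres_smul, ores_ores, show mres H inf_le_left (σ n) = _ from hσ n,
      show mres H inf_le_left (σ (n + 1)) = _ from hσ (n + 1), ← Scheme.Modules.Hom.app_smul, hv])
  let ω : ℕ → H.presheaf.stalk y := fun n => H.presheaf.germ W y hyW (σ n)
  let r : X.presheaf.stalk y := X.presheaf.germ W y hyW (ores hWV a)
  have hω : ∀ n, r • ω (n + 1) = ω n := fun n => by
    show X.presheaf.germ W y hyW (ores hWV a) • H.presheaf.germ W y hyW (σ (n + 1)) = H.presheaf.germ W y hyW (σ n)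
    rw [← M1.germ_smul, hrec]
  have hr : r ∈ IsLocalRing.maximalIdeal (X.presheaf.stalk y) := by
    show ¬ IsUnit (X.presheaf.germ W y hyW (ores hWV a))
    rw [show X.presheaf.germ W y hyW (ores hWV a) = X.presheaf.germ V₀ y hyV₀ a from
      TopCat.Presheaf.germ_res_apply _ _ _ _ _]
    exact fun hu => (M1.isUnit_germ_iff hV₀ hyV₀ a).1 hu hay
  haveI : Module.Finite (X.presheaf.stalk y) (H.presheaf.stalk y) := M1.finite_stalk hH.1 hH.2 y
  let N : ℕ →o Submodule (X.presheaf.stalk y) (H.presheaf.stalk y) :=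
    ⟨fun n => Submodule.span _ {ω n}, monotone_nat_of_le_succ fun n => by
      rw [Submodule.span_singleton_le_iff_mem, Submodule.mem_span_singleton]
      exact ⟨r, hω n⟩⟩
  obtain ⟨n, hn⟩ := (wellFoundedGT_iff_monotone_chain_condition
    (α := Submodule (X.presheaf.stalk y) (H.presheaf.stalk y))).1 inferInstance N
  have hmem : ω (n + 1) ∈ Submodule.span (X.presheaf.stalk y) {ω n} :=
    (hn (n + 1) (Nat.le_succ n)).ge (Submodule.mem_span_singleton_self _)
  obtain ⟨d, hd⟩ := Submodule.mem_span_singleton.1 hmem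
  have hzero' : ω (n + 1) = 0 := by
    rw [← hω n, smul_smul] at hd
    have h1 : (1 - d * r) • ω (n + 1) = 0 := by rw [sub_smul, one_smul, hd, sub_self]
    exact (IsLocalRing.isUnit_one_sub_self_of_mem_nonunits _ (Ideal.mul_mem_left _ d hr)).smul_eq_zero.1 h1
  have hall : ∀ m, ω m = 0 → ω 0 = 0 := fun m => by
    induction m with
    | zero => exact id
    | succ m ih => exact fun h' => ih (by rw [← hω m, h', smul_zero])
  have h0 : ω 0 = 0 := hall _ hzero'
  -- compare at `x`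
  have hxT : x ∈ W ⊓ T.U := ⟨hxW, fun h' => hxZ (hZ (specializes_iff_mem_closure.2 h') hy)⟩
  have hxD : x ∈ D := ⟨hxW, (X.mem_basicOpen a x hxV₀).2 ((M1.isUnit_germ_iff hV₀ hxV₀ a).2 hax)⟩
  have h1 : H.presheaf.germ W x hxW (σ 0) = 0 := by
    rw [← TopCat.Presheaf.germ_stalkSpecializes H.presheaf hyW h]
    exact (congrArg (H.presheaf.stalkSpecializes h) h0).trans (map_zero _)
  apply ht
  have hvt : F.presheaf.germ (W ⊓ T.U) x hxT (v 0) = F.presheaf.germ V₀ x hxV₀ t := by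
    have h2 := congrArg (F.presheaf.germ (D ⊓ (W ⊓ T.U)) x ⟨hxD, hxT⟩) (hvD 0)
    simp only [M1.germ_mres, u, pow_zero, one_smul] at h2
    exact h2.trans (M1.germ_mres F _ hxD t)
  rw [← hvt]
  apply (bijective_rhoStalk Z hZ F hxZ).1
  refine (TopCat.Presheaf.stalkFunctor_map_germ_apply _ x hxT (ZClos.rhoApp Z F).mapPresheaf (v 0)).trans ?_
  refine Eq.trans ?_ (map_zero _).symm
  show H.presheaf.germ (W ⊓ T.U) x hxT ((ZClos.rhoApp Z F).app (W ⊓ T.U) (v 0)) = 0
  rw [← hσ 0]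
  exact (M1.germ_mres H inf_le_left hxT (σ 0)).trans h1

end Groth.Agent.ZClos5
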