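import Groth.Agent.Lib.ZClos5.Restrict
import Groth.Agent.Lib.LocCohZ.DepthGlobal
import Groth.Agent.Lib.AssPts11.Basic
import Groth.Agent.Lib.Depth3.Zero

/-!
# Purity, closedness along a closed subset and depth
-/

set_option autoImplicit false
set_option backward.isDefEq.respectTransparency false

universe u

open CategoryTheory CategoryTheory.Limits AlgebraicGeometry TopologicalSpace Opposite

namespace Groth.Agent.ZClos5

open Groth.Agent Groth.Agent.M1 Groth.Agent.WA

variable {X : Scheme.{u}} [IsLocallyNoetherian X] (F : X.Modules) (hF : Coh.IsCoh F)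
include hF

theorem one_le_depth_iff (y : X) :
    (1 : ℕ∞) ≤ LocCoh.depth (X.presheaf.stalk y) (F.presheaf.stalk y) ↔ y ∉ AssSch.Ass F := by
  haveI := M1.finite_stalk hF.1 hF.2 y
  rw [Order.one_le_iff_ne_zero]
  exact not_congr Depth3.depth_eq_zero_iff

theorem injective_iff_depth (U : X.Opens) :
    (∀ V : X.Opens, Function.Injective (mres F (inf_le_left : V ⊓ U ≤ V))) ↔
      ∀ x : X, x ∉ U → (1 : ℕ∞) ≤ LocCoh.depth (X.presheaf.stalk x) (F.presheaf.stalk x) := by
  haveI := hF.1
  constructor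
  · intro h x hx
    rw [one_le_depth_iff F hF]
    intro hass
    exact hx (AssPts11.ass_subset_of_injective U
      (fun V _ s hs => h V (hs.trans (map_zero _).symm)) hass)
  · intro h V
    refine (injective_iff_map_eq_zero _).2 fun a ha => M1.section_ext _ _ fun y hy => ?_
    rw [map_zero]
    by_contra hne
    obtain ⟨W, hW, hyW, hWV⟩ := exists_isAffineOpen_mem_and_subset (x := y) (U := V) hy
    rw [← M1.germ_mres F hWV hyW] at hne
    obtain ⟨z, hzW, hzy, hwa, hz⟩ := exists_weakAss hW hyW _ hne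
    have hzU : z ∉ U := fun hzU => hz (by
      rw [M1.germ_mres F hWV hzW]
      exact germ_eq_zero_of_mres F inf_le_left a ha (show z ∈ V ⊓ U from ⟨hWV hzW, hzU⟩))
    exact (one_le_depth_iff F hF z).1 (h z hzU) (AssPts11.mem_ass_iff.2 hwa)

theorem bijective_iff_depth (U : X.Opens) :
    (∀ V : X.Opens, Function.Bijective (mres F (inf_le_left : V ⊓ U ≤ V))) ↔
      ∀ x : X, x ∉ U → (2 : ℕ∞) ≤ LocCoh.depth (X.presheaf.stalk x) (F.presheaf.stalk x) := by
  refine ⟨fun h x hx => LocCohZQ.two_le_depth_of_bijective U F hF h x hx, fun h V => ?_⟩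
  let η := (Scheme.Modules.restrictAdjunction U.ι).unit.app F
  have hvan := (LocCohZQ.vanish_iff_depth U F hF 2).2 h
  haveI : PreservesFiniteLimits (DCoh.gammaZ U.ι) := LocCohZQ.preservesFiniteLimits_gammaZ U.ι
  haveI := LocCohZQ.preservesFiniteLimits_pp U.ι
  have h0 : IsZero ((DCoh.gammaZ U.ι).obj F) :=
    ((LocCohZQ.isZero_HZshM_iff U F 0).2 (hvan 0 (by norm_num))).of_iso
      ((DCoh.gammaZ U.ι).rightDerivedZeroIsoSelf.app F).symm
  haveI : Mono η := Preadditive.mono_of_isZero_kernel η h0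
  obtain ⟨e⟩ := RDSeq.nonempty_cokernel_iso (LocCohZQ.gammaι U.ι) (Scheme.Modules.restrictAdjunction U.ι).unit
    (LocCohZQ.seq_zero U.ι) (fun I hI => @LocCohZQ.seq_shortExact _ _ U.ι _ I hI)
    (fun G => LocCohZQ.isZero_rightDerived_id G 0)
  haveI : Epi η := Preadditive.epi_of_isZero_cokernel η
    (((LocCohZQ.isZero_HZshM_iff U F 1).2 (hvan 1 (by norm_num))).of_iso
      ((e.app F) ≪≫ PreservesCokernel.iso ((evaluation _ _).obj F) _).symm)
  haveI : IsIso η := isIso_of_mono_of_epi η
  have hb : Function.Bijective (η.app V) := ConcreteCategory.bijective_of_isIso (η.app V)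
  rw [show (⇑(η.app V) : _ → _) = toPush F U V ∘ mres F (inf_le_left : V ⊓ U ≤ V) from
    funext fun a => resPushUnit_eq F U V a] at hb
  exact ((toPush_bijective F U V).of_comp_iff' _).1 hb

variable (Z : Set X) (hZ : StableUnderSpecialization Z)
include hZ

theorem exists_cl_singleton (x : X) (hx : x ∈ Z) : ∃ T : ZClos.Cl Z, x ∈ (T.1 : Set X) :=
  ⟨⟨⟨closure {x}, isClosed_closure⟩, fun _ hy => hZ (specializes_iff_mem_closure.2 hy) hx⟩,
    subset_closure rfl⟩

theorem pure_iff_depth :
    Pure Z F ↔ ∀ x ∈ Z, (1 : ℕ∞) ≤ LocCoh.depth (X.presheaf.stalk x) (F.presheaf.stalk x) := by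
  constructor
  · intro h x hx
    obtain ⟨T, hT⟩ := exists_cl_singleton F hF Z hZ x hx
    exact (injective_iff_depth F hF T.U).1 (h T) x (fun hU => hU hT)
  · intro h T
    exact (injective_iff_depth F hF T.U).2 fun x hx => h x (T.2 (not_not.1 hx))

theorem closd_iff_depth :
    Closd Z F ↔ ∀ x ∈ Z, (2 : ℕ∞) ≤ LocCoh.depth (X.presheaf.stalk x) (F.presheaf.stalk x) := by
  constructor
  · intro h x hx
    obtain ⟨T, hT⟩ := exists_cl_singleton F hF Z hZ x hx
    exact (bijective_iff_depth F hF T.U).1 (h T) x (fun hU => hU hT)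
  · intro h T
    exact (bijective_iff_depth F hF T.U).2 fun x hx => h x (T.2 (not_not.1 hx))

end Groth.Agent.ZClos5
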