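import Groth.Agent.Lib.ZClos5.AffFinite
import Groth.Agent.Lib.ZClos5.AssDim
import Groth.Agent.Lib.ZClos5.FlatPull
import Groth.Agent.Lib.AssPts11.OpenRestrict
import Groth.Agent.Lib.ModM1.FT
import Groth.Agent.Lib.ModM1.Coh
import Groth.Agent.Lib.CohFound.ProjQuot

/-!
# Coherence of the closure from coherence of the direct images along a covering family
-/

set_option autoImplicit false
set_option backward.isDefEq.respectTransparency false

universe u

open CategoryTheory CategoryTheory.Limits AlgebraicGeometry TopologicalSpace Opposite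

namespace Groth.Agent.ZClos5

open Groth.Agent

/-- For a closed subset, the closure is the direct image from the complement. -/
theorem nonempty_resPush_iso {X : Scheme.{u}} {Z : Set X} (T : ZClos.Cl Z) (F : X.Modules) :
    Nonempty ((ZClos.resPush T.U).obj F ≅ (ZClos.H0 (T.1 : Set X)).obj F) := by
  let T₀ : ZClos.Cl (T.1 : Set X) := ⟨T.1, subset_rfl⟩
  have hT₀ : IsTerminal T₀ := IsTerminal.ofUniqueHom (fun S => homOfLE (show S ≤ T₀ from S.2)) fun S m => Subsingleton.elim _ _
  haveI := isIso_ι_of_isTerminal hT₀ ((ZClos.diagram (T.1 : Set X)).obj F)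
  exact ⟨asIso (colimit.ι ((ZClos.diagram (T.1 : Set X)).obj F) T₀)⟩

variable {R : CommRingCat.{u}}

/-- An associated prime of the global sections is an associated point. -/
theorem mem_ass_of_associatedPrime [IsNoetherianRing R] (G : (Spec R).Modules) [Coh.IsQCoh G]
    (x : (Spec R : Scheme.{u})) (hx : x.asIdeal ∈ associatedPrimes R Γ(G, ⊤)) : x ∈ AssSch.Ass G := by
  obtain ⟨-, t, ht⟩ := isAssociatedPrime_iff.1 hx
  have hne : G.presheaf.germ ⊤ x trivial t ≠ 0 := fun h => by
    obtain ⟨r, hr, hrt⟩ := exists_smul_eq_zero G x t h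
    refine hr ?_
    rw [ht, Submodule.mem_colon_singleton, Submodule.mem_bot]
    exact hrt
  obtain ⟨y, hy, hyx, hwa, hny⟩ := WA.exists_weakAss (isAffineOpen_top (Spec R)) (x := x) trivial t hne
  have hle : x.asIdeal ≤ y.asIdeal := fun a ha => by
    by_contra hay
    rw [ht, Submodule.mem_colon_singleton, Submodule.mem_bot] at ha
    exact hny (germ_eq_zero_of_smul G hay ha)
  have hxy : x = y := PrimeSpectrum.ext (le_antisymm hle ((PrimeSpectrum.le_iff_specializes y x).2 hyx))
  rw [AssPts11.mem_ass_iff, hxy]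
  exact hwa

/-- The dimension of the local ring at `y` of the closure of `x` is at most the height of `y` above `x`. -/
theorem dim_quot_le_height (x y : (Spec R : Scheme.{u})) (h : x ⤳ y) :
    ringKrullDim ((Spec R).presheaf.stalk y ⧸
      (IsLocalRing.maximalIdeal ((Spec R).presheaf.stalk x)).comap ((Spec R).presheaf.stalkSpecializes h).hom) ≤
      (y.asIdeal.map (Ideal.Quotient.mk x.asIdeal)).height := by
  letI : Algebra R ((Spec R).presheaf.stalk y) := StructureSheaf.stalkAlgebra R y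
  haveI : IsLocalization.AtPrime ((Spec R).presheaf.stalk y) y.asIdeal :=
    StructureSheaf.IsLocalization.to_stalk R y
  let g : R →+* (Spec R).presheaf.stalk y := algebraMap R ((Spec R).presheaf.stalk y)
  let P := (IsLocalRing.maximalIdeal ((Spec R).presheaf.stalk x)).comap ((Spec R).presheaf.stalkSpecializes h).hom
  have hP : P.comap g = x.asIdeal := by
    ext a
    rw [Ideal.mem_comap, Ideal.mem_comap, IsLocalRing.mem_maximalIdeal, mem_nonunits_iff]
    show ¬ IsUnit (((Spec R).presheaf.stalkSpecializes h).hom (germR y a)) ↔ _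
    rw [show ((Spec R).presheaf.stalkSpecializes h).hom (germR y a) = germR x a from
      TopCat.Presheaf.germ_stalkSpecializes_apply (Spec R).presheaf (U := ⊤) trivial h _, isUnit_germR_iff]
    exact not_not
  let yb : PrimeSpectrum (R ⧸ x.asIdeal) := ⟨y.asIdeal.map (Ideal.Quotient.mk x.asIdeal),
    Ideal.map_isPrime_of_surjective Ideal.Quotient.mk_surjective
      (Ideal.mk_ker.trans_le ((PrimeSpectrum.le_iff_specializes x y).2 h))⟩
  rw [show (y.asIdeal.map (Ideal.Quotient.mk x.asIdeal)).height = Order.height yb from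
    PrimeSpectrum.height_eq_orderHeight yb, Order.height_eq_krullDim_Iic, ringKrullDim_quotient]
  have hle : ∀ q : PrimeSpectrum.zeroLocus (R := (Spec R).presheaf.stalk y) (P : Set _),
      x.asIdeal ≤ q.1.asIdeal.comap g := fun q => hP ▸ Ideal.comap_mono q.2
  refine Order.krullDim_le_of_strictMono (fun q : PrimeSpectrum.zeroLocus (R := (Spec R).presheaf.stalk y) (P : Set _) =>
    (⟨⟨(q.1.asIdeal.comap g).map (Ideal.Quotient.mk x.asIdeal),
      Ideal.map_isPrime_of_surjective Ideal.Quotient.mk_surjective (Ideal.mk_ker.trans_le (hle q))⟩,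
      Ideal.map_mono ((IsLocalization.AtPrime.primeSpectrumOrderIso ((Spec R).presheaf.stalk y) y.asIdeal) q.1).2⟩ :
      Set.Iic yb)) fun q q' hqq => ?_
  show (q.1.asIdeal.comap g).map (Ideal.Quotient.mk x.asIdeal) < (q'.1.asIdeal.comap g).map (Ideal.Quotient.mk x.asIdeal)
  have hlt : q.1.asIdeal.comap g < q'.1.asIdeal.comap g :=
    (IsLocalization.AtPrime.primeSpectrumOrderIso ((Spec R).presheaf.stalk y) y.asIdeal).strictMono (a := q.1) (b := q'.1) hqq
  refine lt_of_le_of_ne (Ideal.map_mono hlt.le) fun he => hlt.ne ?_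
  have := congrArg (Ideal.comap (Ideal.Quotient.mk x.asIdeal)) he
  rwa [Ideal.comap_map_mk (hle q), Ideal.comap_map_mk (hle q')] at this

theorem isCoh_H0_of_family (X : Scheme.{u}) [IsLocallyNoetherian X] (Z : Set X)
    (hZ : StableUnderSpecialization Z) (F : X.Modules) (hF : Coh.IsCoh F)
    (hass : ∀ x ∈ AssSch.Ass F, x ∉ Z)
    (hX : ∀ (V : X.Opens) (hV : IsAffineOpen V) (x : X) (hxV : x ∈ V), x ∈ AssSch.Ass F →
        EGA4.HeightOneHullFinite (Γ(X, V) ⧸ (hV.primeIdealOf ⟨x, hxV⟩).asIdeal))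
    (hd : ∀ z ∈ Z, ∃ T : ZClos.Cl Z, z ∈ (T.1 : Set X) ∧ Coh.IsCoh ((ZClos.resPush T.U).obj F)) :
    Coh.IsCoh ((ZClos.H0 Z).obj F) := by
  have hH := Groth.Agent.S5841.result X Z hZ F hF.1
  refine ⟨hH, M1.isFT_of_fromSpec fun U hU => ?_⟩
  let f := hU.fromSpec
  haveI : IsNoetherianRing Γ(X, U) := IsLocallyNoetherian.component_noetherian ⟨U, hU⟩
  let Z' : Set (Spec Γ(X, U) : Scheme.{u}) := f.base ⁻¹' Z
  have hZ' : StableUnderSpecialization Z' := fun a b hab ha => hZ (hab.map f.continuous) ha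
  obtain ⟨i⟩ := nonempty_iso_pullback_H0 f Z hZ F hH
  let G := (Scheme.Modules.pullback f).obj F
  have hG : Coh.IsCoh G := M1.isCoh_pullback f hF
  haveI := hG.1
  let M := moduleSpecΓFunctor.obj G
  haveI : Module.Finite Γ(X, U) M := M1.finite_sections_spec G hG.1 hG.2
  haveI : IsIso G.fromTildeΓ := Scheme.Modules.isIso_fromTildeΓ_of_isQuasicoherent (R := Γ(X, U)) G
  have hfin : LFin Z' M := by
    refine lfin_of_assPrimes Z' hZ' M fun p _ hp => ?_
    let x : (Spec Γ(X, U) : Scheme.{u}) := ⟨p, inferInstance⟩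
    have hxG : x ∈ AssSch.Ass G := mem_ass_of_associatedPrime G x hp
    have hxF : f x ∈ AssSch.Ass F := (AssPts11.mem_ass_pullback_iff f x F).1 hxG
    have hxZ : x ∉ Z' := hass _ hxF
    refine lfin_quotient Z' hZ' p hxZ (fun y hy hle => ?_) ?_
    · obtain ⟨T, hyT, hT⟩ := hd (f y) hy
      obtain ⟨j⟩ := nonempty_resPush_iso T F
      have hTs : StableUnderSpecialization (T.1 : Set X) := T.1.isClosed.stableUnderSpecialization
      have hcoh := CohFound.isCoh_of_iso j hT
      obtain ⟨k⟩ := nonempty_iso_pullback_H0 f (T.1 : Set X) hTs F hcoh.1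
      have hxy : x ⤳ y := (PrimeSpectrum.le_iff_specializes x y).1 hle
      have h2 := two_le_dim_quot (f.base ⁻¹' (T.1 : Set X)) (fun a b hab ha => hTs (hab.map f.continuous) ha) G hG
        (CohFound.isCoh_of_iso k (M1.isCoh_pullback f hcoh)) x hxG (fun h => hxZ (T.2 h)) y hyT hxy
      exact WithBot.coe_le_coe.1 (h2.trans (dim_quot_le_height x y hxy))
    · have hxU : f x ∈ U := hU.range_fromSpec.le ⟨x, rfl⟩
      have hx : hU.primeIdealOf ⟨f x, hxU⟩ = x :=
        f.isOpenEmbedding.injective (hU.fromSpec_primeIdealOf ⟨f x, hxU⟩)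
      have h := hX U hU (f x) hxU hxF
      revert h
      generalize hU.primeIdealOf ⟨f x, hxU⟩ = x' at hx ⊢
      subst hx
      exact id
  have hc : Coh.IsCoh ((ZClos.H0 Z').obj ((tilde.functor Γ(X, U)).obj M)) := by
    haveI := isQCoh_tilde M
    have hq := Groth.Agent.S5841.result _ Z' hZ' ((tilde.functor Γ(X, U)).obj M) inferInstance
    exact ⟨hq, (M1.isFT_iff_finite_spec _ hq).2 hfin⟩
  exact (CohFound.isCoh_of_iso ((ZClos.H0 Z').mapIso (asIso G.fromTildeΓ) ≪≫ i.symm ≪≫
    ((Scheme.Modules.restrictFunctorIsoPullback f).app _).symm) hc).2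

end Groth.Agent.ZClos5
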