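import Groth.Agent.Lib.ZClos5.Depth
import Groth.Agent.Lib.FlatDepth.GenericDepth

/-!
# Purity and closedness at a point
-/

set_option autoImplicit false
set_option backward.isDefEq.respectTransparency false

universe u

open CategoryTheory CategoryTheory.Limits AlgebraicGeometry TopologicalSpace Opposite

namespace Groth.Agent.ZClos5

open Groth.Agent Groth.Agent.M1 Groth.Agent.WA

variable {X : Scheme.{u}}

theorem germ_eq_zero_of_not_specializes (F : X.Modules) {V : X.Opens} (hV : IsAffineOpen V) {x z : X}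
    (hx : x ∈ V) (hz : z ∈ V) (t : Γ(F, V))
    (hP : (hV.primeIdealOf ⟨x, hx⟩).asIdeal ≤ (Submodule.colon (⊥ : Submodule Γ(X, V) Γ(F, V)) {t}).radical)
    (h : ¬ x ⤳ z) : F.presheaf.germ V z hz t = 0 := by
  obtain ⟨a, ha, hau⟩ : ∃ a : Γ(X, V), IsUnit (X.presheaf.germ V z hz a) ∧ ¬ IsUnit (X.presheaf.germ V x hx a) := by
    by_contra hc
    push Not at hc
    exact h (specializes_of_isUnit hV hz hx hc)
  have hmem : a ∈ (hV.primeIdealOf ⟨x, hx⟩).asIdeal := by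
    by_contra hn
    exact hau ((M1.isUnit_germ_iff hV hx a).2 hn)
  obtain ⟨k, hk⟩ := hP hmem
  rw [Submodule.mem_colon_singleton, Submodule.mem_bot] at hk
  have h1 := congrArg (F.presheaf.germ V z hz) hk
  rw [M1.germ_smul, map_zero, map_pow] at h1
  exact (ha.pow k).smul_eq_zero.mp h1

variable [IsLocallyNoetherian X] (F : X.Modules)

theorem exists_of_rhoStalk_eq_zero (Z : Set X) (x : X) {U : X.Opens} (hx : x ∈ U) (s : Γ(F, U))
    (h : ZClos.rhoStalk Z F x (F.presheaf.germ U x hx s) = 0) :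
    ∃ (V : X.Opens) (hVU : V ≤ U) (T : ZClos.Cl Z),
      x ∈ V ∧ mres F (inf_le_left.trans hVU : V ⊓ T.U ≤ U) s = 0 := by
  have h1 : ((ZClos.H0 Z).obj F).presheaf.germ U x hx ((ZClos.rhoApp Z F).app U s) = 0 :=
    (TopCat.Presheaf.stalkFunctor_map_germ_apply U x hx (ZClos.rhoApp Z F).mapPresheaf s).symm.trans h
  obtain ⟨W, hxW, i₁, _, he⟩ := ((ZClos.H0 Z).obj F).presheaf.germ_eq x hx hx _ 0 (h1.trans (map_zero _).symm)
  rw [map_zero] at he
  obtain ⟨V, hV, hxV, hVW⟩ := exists_compact_nhd W x hxW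
  have h2 : (ZClos.rhoApp Z F).app V (mres F (hVW.trans i₁.le) s) = 0 := by
    rw [app_mres, ← mres_mres ((ZClos.H0 Z).obj F) i₁.le hVW]
    exact (congrArg (mres ((ZClos.H0 Z).obj F) hVW) he).trans (map_zero _)
  rw [rhoApp_eq Z F ⊥] at h2
  obtain ⟨T, _, hT⟩ := exists_of_ins_eq_zero Z F hV _ h2
  rw [mres_mres, mres_mres] at hT
  exact ⟨V, hVW.trans i₁.le, T, hxV, hT⟩

variable (hF : Coh.IsCoh F) (Z : Set X) (hZ : StableUnderSpecialization Z)
include hF hZ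

theorem isZPureAt_iff (x : X) : ZClos.IsZPureAt Z F x ↔
    ∀ x' : X, x' ⤳ x → x' ∈ Z → (1 : ℕ∞) ≤ LocCoh.depth (X.presheaf.stalk x') (F.presheaf.stalk x') := by
  haveI := hF.1
  constructor
  · intro h x' hx' hx'Z
    rw [one_le_depth_iff F hF]
    intro hass
    obtain ⟨V, hV, hxV, -⟩ := exists_isAffineOpen_mem_and_subset (x := x) (U := (⊤ : X.Opens)) trivial
    obtain ⟨t, ht, hP⟩ := exists_section_weakAss hV (hx'.mem_open V.2 hxV) (AssPts11.mem_ass_iff.1 hass)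
    apply ht
    have h0 : (ZClos.rhoApp Z F).app V t = 0 := by
      rw [rhoApp_eq Z F ⊥]
      refine ins_eq_zero_of_germ Z hZ ⊥ V _ fun z hz hzZ => ?_
      rw [M1.germ_mres F inf_le_left hz]
      exact germ_eq_zero_of_not_specializes F hV (hx'.mem_open V.2 hxV) hz.1 t hP.le fun hs => hzZ (hZ hs hx'Z)
    have h1 : F.presheaf.germ V x hxV t = 0 := by
      apply h
      refine (TopCat.Presheaf.stalkFunctor_map_germ_apply V x hxV (ZClos.rhoApp Z F).mapPresheaf t).trans ?_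
      rw [map_zero]
      exact (congrArg _ h0).trans (map_zero _)
    rw [← TopCat.Presheaf.germ_stalkSpecializes F.presheaf hxV hx']
    exact (congrArg (F.presheaf.stalkSpecializes hx') h1).trans (map_zero _)
  · intro h
    refine (injective_iff_map_eq_zero (ZClos.rhoStalk Z F x).hom).2 fun a ha => ?_
    obtain ⟨U, hxU, s, rfl⟩ := F.presheaf.exists_germ_eq a
    obtain ⟨V, hVU, T, hxV, hT⟩ := exists_of_rhoStalk_eq_zero F Z x hxU s ha
    obtain ⟨W, hW, hxW, hWV⟩ := exists_isAffineOpen_mem_and_subset (x := x) (U := V) hxV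
    by_contra hne
    rw [← M1.germ_mres F (hWV.trans hVU) hxW] at hne
    obtain ⟨z, hzW, hzx, hwa, hz⟩ := exists_weakAss hW hxW _ hne
    have hzZ : z ∈ Z := by
      by_contra hzZ
      refine hz ?_
      rw [M1.germ_mres F (hWV.trans hVU) hzW]
      exact germ_eq_zero_of_mres F _ s hT (show z ∈ V ⊓ T.U from ⟨hWV hzW, not_mem_T Z hzZ⟩)
    exact (one_le_depth_iff F hF z).1 (h z hzx hzZ) (AssPts11.mem_ass_iff.2 hwa)

omit hZ Z in
/-- An affine neighbourhood on which a function vanishing on `T` is regular and the points of small depth on `T` are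
finitely many. -/
theorem exists_chart (T : Set X) (hT : IsClosed T) (x : X)
    (h : ∀ z : X, z ⤳ x → z ∈ T → (1 : ℕ∞) ≤ LocCoh.depth (X.presheaf.stalk z) (F.presheaf.stalk z)) :
    ∃ (V : X.Opens) (hV : IsAffineOpen V) (a : Γ(X, V)), x ∈ V ∧ IsSMulRegular Γ(F, V) a ∧
      (∀ (z : X) (hz : z ∈ V), z ∈ T → a ∈ (hV.primeIdealOf ⟨z, hz⟩).asIdeal) ∧
      ∀ (z : X) (hz : z ∈ V), z ∈ T →
        ((2 : ℕ∞) ≤ LocCoh.depth (X.presheaf.stalk z) (F.presheaf.stalk z) ∨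
          (hV.primeIdealOf ⟨z, hz⟩).asIdeal ∈ associatedPrimes Γ(X, V) (QuotSMulTop a Γ(F, V))) := by
  haveI := hF.1
  obtain ⟨V₀, hV₀, hxV₀, -⟩ := exists_isAffineOpen_mem_and_subset (x := x) (U := (⊤ : X.Opens)) trivial
  have hfin := finite_weakAss_affine hF.1 hF.2 hV₀
  let S : Set X := {z | (z ∈ V₀ ∧ Curv2.IsWeakAssPoint F z) ∧ z ∈ T}
  have hS : S.Finite := hfin.subset fun z hz => hz.1
  have hxS : x ∉ ⋃ z ∈ S, closure ({z} : Set X) := by
    simp only [Set.mem_iUnion₂, not_exists]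
    intro z hz hxz
    exact (one_le_depth_iff F hF z).1 (h z (specializes_iff_mem_closure.2 hxz) hz.2) (AssPts11.mem_ass_iff.2 hz.1.2)
  obtain ⟨V, hV, hxV, hVle⟩ := exists_isAffineOpen_mem_and_subset (x := x)
    (U := V₀ ⊓ ⟨(⋃ z ∈ S, closure ({z} : Set X))ᶜ, (hS.isClosed_biUnion fun z _ => isClosed_closure).isOpen_compl⟩)
    ⟨hxV₀, hxS⟩
  haveI : IsNoetherianRing Γ(X, V) := IsLocallyNoetherian.component_noetherian ⟨V, hV⟩
  haveI : Module.Finite Γ(X, V) Γ(F, V) := M1.finite_sections hF.1 hF.2 hV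
  have hnoass : ∀ z ∈ V, z ∈ T → (1 : ℕ∞) ≤ LocCoh.depth (X.presheaf.stalk z) (F.presheaf.stalk z) :=
    fun z hz hzT => (one_le_depth_iff F hF z).2 fun hass =>
      (hVle hz).2 (Set.mem_biUnion (x := z) ⟨⟨(hVle hz).1, AssPts11.mem_ass_iff.1 hass⟩, hzT⟩ (subset_closure rfl))
  let J : Ideal Γ(X, V) := ⨅ (z : X) (hz : z ∈ V) (_ : z ∈ T), (hV.primeIdealOf ⟨z, hz⟩).asIdeal
  obtain ⟨a, haJ, ha⟩ : ∃ a ∈ J, IsSMulRegular Γ(F, V) a := by
    refine ClosedAlong.exists_regular_mem fun q hq hle => ?_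
    haveI := hq.isPrime
    let y : X := hV.fromSpec ⟨q, hq.isPrime⟩
    have hyV : y ∈ V := by
      have : y ∈ Set.range hV.fromSpec := ⟨_, rfl⟩
      rwa [hV.range_fromSpec] at this
    have hy : hV.primeIdealOf ⟨y, hyV⟩ = ⟨q, hq.isPrime⟩ :=
      hV.fromSpec.isOpenEmbedding.injective (hV.fromSpec_primeIdealOf _)
    by_cases hyT : y ∈ T
    · have h1 := hnoass y hyV hyT
      rw [LocCohZQ.depth_stalk_eq F hV hyV, hy] at h1
      exact ClosedAlong.notMem_associatedPrimes_of_one_le_depth q h1 hq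
    · obtain ⟨g, hg, hyg⟩ := hV.exists_basicOpen_le (V := ⟨Tᶜ, hT.isOpen_compl⟩) ⟨y, hyT⟩ hyV
      have hgJ : g ∈ J := by
        simp only [J, Submodule.mem_iInf]
        intro z hz hzT
        by_contra hn
        exact hg ((X.mem_basicOpen g z hz).2 ((M1.isUnit_germ_iff hV hz g).2 hn)) hzT
      have hgq : g ∈ (hV.primeIdealOf ⟨y, hyV⟩).asIdeal := by rw [hy]; exact hle hgJ
      exact (M1.isUnit_germ_iff hV hyV g).1 ((X.mem_basicOpen g y hyV).1 hyg) hgq
  have haP : ∀ (z : X) (hz : z ∈ V), z ∈ T → a ∈ (hV.primeIdealOf ⟨z, hz⟩).asIdeal := fun z hz hzT => by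
    simp only [J, Submodule.mem_iInf] at haJ
    exact haJ z hz hzT
  refine ⟨V, hV, a, hxV, ha, haP, fun z hz hzT => or_iff_not_imp_right.2 fun hnot => ?_⟩
  have hreg : IsSMulRegular (LocalizedModule (hV.primeIdealOf ⟨z, hz⟩).asIdeal.primeCompl Γ(F, V))
      (algebraMap Γ(X, V) (Localization.AtPrime (hV.primeIdealOf ⟨z, hz⟩).asIdeal) a) :=
    IsSMulRegular.of_isLocalizedModule (Localization.AtPrime (hV.primeIdealOf ⟨z, hz⟩).asIdeal)
      (hV.primeIdealOf ⟨z, hz⟩).asIdeal.primeCompl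
      (LocalizedModule.mkLinearMap (hV.primeIdealOf ⟨z, hz⟩).asIdeal.primeCompl Γ(F, V)) ha
  have hmax : algebraMap Γ(X, V) (Localization.AtPrime (hV.primeIdealOf ⟨z, hz⟩).asIdeal) a ∈
      IsLocalRing.maximalIdeal _ :=
    (IsLocalization.AtPrime.to_map_mem_maximal_iff _ (hV.primeIdealOf ⟨z, hz⟩).asIdeal a).mpr (haP z hz hzT)
  have h1 := ClosedAlong.one_le_depth_of_notMem_associatedPrimes _ hnot
  rw [LocCoh.depth, DepthLib.idealDepth_congr (FlatDepth.quotSMulTopAtEquiv _ a)] at h1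
  have h2 := (DepthLib.natCast_le_idealDepth_quotSMulTop_iff hmax hreg 1).1 (by exact_mod_cast h1)
  rw [LocCohZQ.depth_stalk_eq F hV hz]
  exact h2

theorem isZClosedAt_of_depth (x : X)
    (h : ∀ x' : X, x' ⤳ x → x' ∈ Z → (2 : ℕ∞) ≤ LocCoh.depth (X.presheaf.stalk x') (F.presheaf.stalk x')) :
    ZClos.IsZClosedAt Z F x := by
  haveI := hF.1
  refine ⟨(isZPureAt_iff F hF Z hZ x).2 fun x' hx' hZ' => le_trans one_le_two (h x' hx' hZ'), fun b => ?_⟩
  obtain ⟨U, hxU, s, rfl⟩ := ((ZClos.H0 Z).obj F).presheaf.exists_germ_eq b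
  obtain ⟨O, hO, hxO, hOU⟩ := exists_compact_nhd U x hxU
  obtain ⟨T, t, ht⟩ := exists_ins Z F hO (mres _ hOU s)
  obtain ⟨V, hV, a, hxV, ha, haP, hbad⟩ := exists_chart F hF (T.1 : Set X) T.1.isClosed x
    fun z hz hzT => le_trans one_le_two (h z hz (T.2 hzT))
  haveI : IsNoetherianRing Γ(X, V) := IsLocallyNoetherian.component_noetherian ⟨V, hV⟩
  haveI : Module.Finite Γ(X, V) Γ(F, V) := M1.finite_sections hF.1 hF.2 hV
  let S : Set X := {z | (∃ hz : z ∈ V, (hV.primeIdealOf ⟨z, hz⟩).asIdeal ∈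
    associatedPrimes Γ(X, V) (QuotSMulTop a Γ(F, V))) ∧ ¬ z ⤳ x}
  have hS : S.Finite := by
    refine (((associatedPrimes.finite Γ(X, V) (QuotSMulTop a Γ(F, V))).preimage
      (f := fun p : PrimeSpectrum Γ(X, V) => p.asIdeal) fun p _ q _ e => PrimeSpectrum.ext e).image hV.fromSpec).subset ?_
    rintro z ⟨⟨hz, hq⟩, -⟩
    exact ⟨_, hq, hV.fromSpec_primeIdealOf ⟨z, hz⟩⟩
  have hxS : x ∉ ⋃ z ∈ S, closure ({z} : Set X) := by
    simp only [Set.mem_iUnion₂, not_exists]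
    exact fun z hz hxz => hz.2 (specializes_iff_mem_closure.2 hxz)
  let W : X.Opens := (O ⊓ V) ⊓
    ⟨(⋃ z ∈ S, closure ({z} : Set X))ᶜ, (hS.isClosed_biUnion fun z _ => isClosed_closure).isOpen_compl⟩
  have hxW : x ∈ W := ⟨⟨hxO, hxV⟩, hxS⟩
  have hW : ∀ z ∈ W, z ∈ (T.1 : Set X) → (2 : ℕ∞) ≤ LocCoh.depth (X.presheaf.stalk z) (F.presheaf.stalk z) := by
    intro z hz hzT
    rcases hbad z hz.1.2 hzT with h2 | hq
    · exact h2
    · by_cases hzx : z ⤳ x
      · exact h z hzx (T.2 hzT)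
      · exact absurd (Set.mem_biUnion (show z ∈ S from ⟨⟨hz.1.2, hq⟩, hzx⟩) (specializes_iff_mem_closure.1 specializes_rfl)) hz.2
  have hbij := (bijective_iff_depth (F.restrict W.ι) (DPerf.isCoh_restrict hF W.ι) (restrictCl Z W T).U).2
    (fun y hy => by
      rw [← LocCohZQ.depth_restrict F W y]
      exact hW (W.ι y) y.2 (not_not.1 hy)) ⊤
  have hbij' := (res_bij_iff Z F W T ⊤).1 hbij
  have hWeq : W.ι ''ᵁ (⊤ : (W : Scheme.{u}).Opens) = W := M1.image_ι_top W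
  obtain ⟨f, hf⟩ := hbij'.2 (mres F (inf_le_inf_right T.U (hWeq.le.trans (inf_le_left.trans inf_le_left))) t)
  refine ⟨F.presheaf.germ W x hxW (mres F hWeq.ge f), ?_⟩
  refine (TopCat.Presheaf.stalkFunctor_map_germ_apply W x hxW (ZClos.rhoApp Z F).mapPresheaf _).trans ?_
  show ((ZClos.H0 Z).obj F).presheaf.germ W x hxW ((ZClos.rhoApp Z F).app W (mres F hWeq.ge f)) = _
  rw [app_mres, M1.germ_mres _ hWeq.ge hxW, rhoApp_eq Z F T]
  erw [hf]
  rw [← mres_ins Z F T (hWeq.le.trans (inf_le_left.trans inf_le_left)) t, ht, mres_mres, M1.germ_mres]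

theorem two_le_depth_of_isZClosedAt (x : X) (h : ZClos.IsZClosedAt Z F x) (x' : X) (hx' : x' ⤳ x) (hx'Z : x' ∈ Z) :
    (2 : ℕ∞) ≤ LocCoh.depth (X.presheaf.stalk x') (F.presheaf.stalk x') := by
  haveI := hF.1
  have hpure := (isZPureAt_iff F hF Z hZ x).1 h.1
  let T : ZClos.Cl Z := ⟨⟨closure {x'}, isClosed_closure⟩, fun _ hy => hZ (specializes_iff_mem_closure.2 hy) hx'Z⟩
  obtain ⟨V, hV, a, hxV, ha, haP, hbad⟩ := exists_chart F hF (T.1 : Set X) T.1.isClosed x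
    fun z hz hzT => hpure z hz (T.2 hzT)
  have hx'V : x' ∈ V := hx'.mem_open V.2 hxV
  rcases hbad x' hx'V (subset_closure rfl) with h2 | hq
  · exact h2
  exfalso
  obtain ⟨hqp, μ, hμ⟩ := hq
  obtain ⟨m, rfl⟩ := Submodule.Quotient.mk_surjective _ μ
  let q := (hV.primeIdealOf ⟨x', hx'V⟩).asIdeal
  -- the powers of the functions vanishing at `x'` bring `m` into `a F`
  have hP : ∀ g ∈ q, ∃ (k : ℕ) (w : Γ(F, V)), a • w = g ^ k • m := fun g hg => by
    obtain ⟨k, hk⟩ := hμ.le hg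
    rw [Submodule.mem_colon_singleton, Submodule.mem_bot, ← Submodule.Quotient.mk_smul,
      Submodule.Quotient.mk_eq_zero, Submodule.mem_smul_pointwise_iff_exists] at hk
    obtain ⟨w, -, hw⟩ := hk
    exact ⟨k, w, hw⟩
  have hnot : ∀ s : Γ(X, V), s ∉ q → ∀ w : Γ(F, V), a • w ≠ s • m := fun s hs w hw => hs (hμ.ge ⟨1, by
    rw [pow_one, Submodule.mem_colon_singleton, Submodule.mem_bot, ← Submodule.Quotient.mk_smul,
      Submodule.Quotient.mk_eq_zero, Submodule.mem_smul_pointwise_iff_exists]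
    exact ⟨w, trivial, hw⟩⟩)
  have hinj : ∀ (O : X.Opens) (hO : O ≤ V) (u v : Γ(F, O)), ores hO a • u = ores hO a • v → u = v := by
    intro O hO u v huv
    refine M1.section_ext _ _ fun z hz => ?_
    rw [← sub_eq_zero, ← map_sub]
    obtain ⟨r, w, hr, hw⟩ := M1.exists_germ_smul_eq F hV (hO hz) (F.presheaf.germ O z hz (u - v))
    have h0 : F.presheaf.germ V z (hO hz) (a • w) = 0 := by
      rw [M1.germ_smul, ← hw, smul_comm, ← show X.presheaf.germ O z hz (ores hO a) = X.presheaf.germ V z (hO hz) a from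
        TopCat.Presheaf.germ_res_apply _ _ _ _ _]
      rw [← M1.germ_smul, smul_sub, huv, sub_self, map_zero, smul_zero]
    obtain ⟨s, hs, hs0⟩ := M1.exists_smul_eq_zero_of_germ_eq_zero F hV (hO hz) _ h0
    rw [smul_comm] at hs0
    have h1 := congrArg (F.presheaf.germ V z (hO hz)) (ha.right_eq_zero_of_smul hs0)
    rw [M1.germ_smul, map_zero] at h1
    rw [hs.smul_eq_zero.mp h1] at hw
    exact hr.smul_eq_zero.mp hw
  -- the section `m / a` off `T`
  let ι := {g : Γ(X, V) // X.basicOpen g ≤ T.U}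
  have hloc : ∀ g : ι, ∃ t : Γ(F, X.basicOpen g.1),
      ores (X.basicOpen_le g.1) a • t = mres F (X.basicOpen_le g.1) m := by
    intro g
    have hg : g.1 ∈ q := by
      by_contra hn
      exact g.2 ((X.mem_basicOpen g.1 x' hx'V).2 ((M1.isUnit_germ_iff hV hx'V g.1).2 hn)) (subset_closure rfl)
    obtain ⟨k, w, hw⟩ := hP g.1 hg
    have hu : IsUnit (ores (X.basicOpen_le g.1) (g.1 ^ k)) := by
      rw [map_pow]
      exact (X.toRingedSpace.isUnit_res_basicOpen g.1).pow k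
    refine ⟨(↑hu.unit⁻¹ : Γ(X, X.basicOpen g.1)) • mres F (X.basicOpen_le g.1) w, ?_⟩
    rw [smul_comm, ← mres_smul, hw, mres_smul, smul_smul, hu.val_inv_mul, one_smul]
  choose tg htg using hloc
  obtain ⟨t, ht, -⟩ := TopCat.Sheaf.existsUnique_gluing' (F := ⟨_, F.isSheaf⟩) (fun g : ι => X.basicOpen g.1)
    (V ⊓ T.U) (fun g => homOfLE (le_inf (X.basicOpen_le g.1) g.2))
    (fun z hz => by
      obtain ⟨g, hg, hzg⟩ := hV.exists_basicOpen_le (V := T.U) ⟨z, hz.2⟩ hz.1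
      exact Opens.mem_iSup.2 ⟨⟨g, hg⟩, hzg⟩)
    tg fun g g' => by
      show mres F inf_le_left (tg g) = mres F inf_le_right (tg g')
      refine hinj _ (inf_le_left.trans (X.basicOpen_le g.1)) _ _ ?_
      rw [← ores_ores (X.basicOpen_le g.1) inf_le_left, ← mres_smul, htg, mres_mres, ores_ores,
        ← ores_ores (X.basicOpen_le g'.1) inf_le_right, ← mres_smul, htg, mres_mres]
  have hat : ores (inf_le_left : V ⊓ T.U ≤ V) a • t = mres F inf_le_left m := by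
    refine M1.modules_eq_of_locally_eq F _ (fun g : ι => X.basicOpen g.1)
      (fun g => le_inf (X.basicOpen_le g.1) g.2) (fun z hz => ?_) _ _ fun g => ?_
    · obtain ⟨g, hg, hzg⟩ := hV.exists_basicOpen_le (V := T.U) ⟨z, hz.2⟩ hz.1
      exact Opens.mem_iSup.2 ⟨⟨g, hg⟩, hzg⟩
    · rw [mres_smul, ores_ores, mres_mres, show mres F (le_inf (X.basicOpen_le g.1) g.2) t = tg g from ht g]
      exact htg g
  -- lift it near `x`
  obtain ⟨b, hb⟩ := h.2 (((ZClos.H0 Z).obj F).presheaf.germ V x hxV (ins Z F T V t))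
  obtain ⟨U₀, hxU₀, f, rfl⟩ := F.presheaf.exists_germ_eq b
  have hb' : ((ZClos.H0 Z).obj F).presheaf.germ U₀ x hxU₀ ((ZClos.rhoApp Z F).app U₀ f) =
      ((ZClos.H0 Z).obj F).presheaf.germ V x hxV (ins Z F T V t) :=
    (TopCat.Presheaf.stalkFunctor_map_germ_apply U₀ x hxU₀ (ZClos.rhoApp Z F).mapPresheaf f).symm.trans hb
  obtain ⟨W₀, hxW₀, i₁, i₂, he⟩ := ((ZClos.H0 Z).obj F).presheaf.germ_eq x hxU₀ hxV _ _ hb'
  obtain ⟨W, hW, hxW, hWW⟩ := exists_isAffineOpen_mem_and_subset (x := x) (U := W₀) hxW₀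
  obtain ⟨f', hf'⟩ : ∃ f' : Γ(F, W), f' = mres F (hWW.trans i₁.le) f := ⟨_, rfl⟩
  have he' : ins Z F T W (mres F inf_le_left f' - mres F (inf_le_inf_right T.U (hWW.trans i₂.le)) t) = 0 := by
    rw [hf', map_sub, ← rhoApp_eq Z F T, ← mres_ins Z F T (hWW.trans i₂.le) t, app_mres, sub_eq_zero,
      ← mres_mres _ i₁.le hWW, ← mres_mres _ i₂.le hWW]
    exact congrArg (mres ((ZClos.H0 Z).obj F) hWW) he
  obtain ⟨T', hle, hT'⟩ := exists_of_ins_eq_zero Z F hW.isCompact _ he'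
  rw [map_sub, sub_eq_zero, mres_mres, mres_mres] at hT'
  have hWV : W ≤ V := hWW.trans i₂.le
  let d : Γ(F, W) := ores hWV a • f' - mres F hWV m
  have hd : mres F (inf_le_left : W ⊓ T'.U ≤ W) d = 0 := by
    show mres F _ (ores hWV a • f' - mres F hWV m) = 0
    rw [map_sub, mres_smul, hT', ores_ores, mres_mres, sub_eq_zero]
    have := congrArg (mres F (inf_le_inf hWV (ZClos.Cl.U_anti hle) : W ⊓ T'.U ≤ V ⊓ T.U)) hat
    rw [mres_smul, ores_ores, mres_mres] at this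
    exact this
  have hx'W : x' ∈ W := hx'.mem_open W.2 hxW
  have hd0 : F.presheaf.germ W x' hx'W d = 0 := by
    by_contra hne
    obtain ⟨z, hzW, hzx, hwa, hz⟩ := exists_weakAss hW hx'W _ hne
    have hzZ : z ∈ Z := by
      by_contra hzZ
      exact hz (germ_eq_zero_of_mres F _ d hd (show z ∈ W ⊓ T'.U from ⟨hzW, not_mem_T Z hzZ⟩))
    exact (one_le_depth_iff F hF z).1 (hpure z (hzx.trans hx') hzZ) (AssPts11.mem_ass_iff.2 hwa)
  obtain ⟨r, n, hr, hn⟩ := M1.exists_germ_smul_eq F hV hx'V (F.presheaf.germ W x' hx'W f')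
  have h0 : F.presheaf.germ V x' hx'V (a • n - r • m) = 0 := by
    have h1 := congrArg (fun v => X.presheaf.germ V x' hx'V r • v) hd0
    simp only [d, map_sub, M1.germ_smul, smul_sub, smul_zero, M1.germ_mres] at h1
    rw [map_sub, M1.germ_smul, M1.germ_smul, ← hn, smul_comm]
    rw [← show X.presheaf.germ W x' hx'W (ores hWV a) = X.presheaf.germ V x' hx'V a from
      TopCat.Presheaf.germ_res_apply _ _ _ _ _]
    exact h1
  obtain ⟨s, hs, hs0⟩ := M1.exists_smul_eq_zero_of_germ_eq_zero F hV hx'V _ h0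
  refine hnot (s * r) ((hV.primeIdealOf ⟨x', hx'V⟩).asIdeal.primeCompl.mul_mem
    ((M1.isUnit_germ_iff hV hx'V s).1 hs) ((M1.isUnit_germ_iff hV hx'V r).1 hr)) (s • n) ?_
  rw [smul_sub, sub_eq_zero] at hs0
  rw [smul_comm, hs0, mul_smul]

end Groth.Agent.ZClos5
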