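import Groth.Agent.Lib.ZClos5.Support

/-!
# `Z`-purity and `Z`-closedness are local
-/

set_option autoImplicit false
set_option backward.isDefEq.respectTransparency false

universe u

open CategoryTheory CategoryTheory.Limits AlgebraicGeometry TopologicalSpace Opposite

namespace Groth.Agent.ZClos5

open Groth.Agent Groth.Agent.M1

variable {X : Scheme.{u}} (Z : Set X) (F : X.Modules) (V : X.Opens)

/-- Restriction of a member of the index to an open. -/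
noncomputable def restrictCl (T : ZClos.Cl Z) : ZClos.Cl (V.ι.base ⁻¹' Z) :=
  ⟨⟨V.ι ⁻¹' T.1, T.1.isClosed.preimage V.ι.continuous⟩, fun _ hx => T.2 hx⟩

theorem image_inf_U (T : ZClos.Cl Z) (W : (V : Scheme.{u}).Opens) :
    V.ι ''ᵁ (W ⊓ (restrictCl Z V T).U) = V.ι ''ᵁ W ⊓ T.U := by
  refine TopologicalSpace.Opens.ext (Set.ext fun y => ⟨?_, ?_⟩)
  · rintro ⟨x, ⟨hxW, hxT⟩, rfl⟩
    exact ⟨⟨x, hxW, rfl⟩, fun h => hxT h⟩
  · rintro ⟨⟨x, hxW, rfl⟩, hxT⟩
    exact ⟨x, ⟨hxW, fun h => hxT h⟩, rfl⟩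

theorem res_inj_iff (T : ZClos.Cl Z) (W : (V : Scheme.{u}).Opens) :
    Function.Injective (res (V.ι.base ⁻¹' Z) ((Scheme.Modules.restrictFunctor V.ι).obj F) (restrictCl Z V T) W) ↔
      Function.Injective (res Z F T (V.ι ''ᵁ W)) :=
  mres_inj_congr F (image_inf_U Z V T W) (Scheme.Hom.image_mono _ inf_le_left) inf_le_left

theorem res_bij_iff (T : ZClos.Cl Z) (W : (V : Scheme.{u}).Opens) :
    Function.Bijective (res (V.ι.base ⁻¹' Z) ((Scheme.Modules.restrictFunctor V.ι).obj F) (restrictCl Z V T) W) ↔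
      Function.Bijective (res Z F T (V.ι ''ᵁ W)) :=
  mres_bij_congr F (image_inf_U Z V T W) (Scheme.Hom.image_mono _ inf_le_left) inf_le_left

variable [IsLocallyNoetherian X] (hZ : StableUnderSpecialization Z)
include hZ

theorem exists_restrictCl_eq (T' : ZClos.Cl (V.ι.base ⁻¹' Z)) : ∃ T : ZClos.Cl Z, restrictCl Z V T = T' := by
  obtain ⟨T, hT⟩ := exists_cl Z hZ V (T'.1 : Set (V : Scheme.{u})) T'.1.isClosed (Set.image_subset_iff.2 T'.2)
  refine ⟨T, Subtype.ext (Closeds.ext ?_)⟩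
  show V.ι ⁻¹' (T.1 : Set X) = _
  rw [hT, ← V.ι.isOpenEmbedding.isInducing.closure_eq_preimage_closure_image, T'.1.isClosed.closure_eq]

theorem pure_restrict (h : Pure Z F) :
    Pure (V.ι.base ⁻¹' Z) ((Scheme.Modules.restrictFunctor V.ι).obj F) := fun T' W => by
  obtain ⟨T, rfl⟩ := exists_restrictCl_eq Z V hZ T'
  exact (res_inj_iff Z F V T W).2 (h T _)

theorem closd_restrict (h : Closd Z F) :
    Closd (V.ι.base ⁻¹' Z) ((Scheme.Modules.restrictFunctor V.ι).obj F) := fun T' W => by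
  obtain ⟨T, rfl⟩ := exists_restrictCl_eq Z V hZ T'
  exact (res_bij_iff Z F V T W).2 (h T _)

omit hZ [IsLocallyNoetherian X] in
theorem exists_nhd_le {ι : Type u} (V : ι → X.Opens) (hV : iSup V = ⊤) (U : X.Opens) (x : X) (hx : x ∈ U) :
    ∃ W : X.Opens, (∃ i, W ≤ V i) ∧ x ∈ W ∧ W ≤ U := by
  obtain ⟨i, hi⟩ := Opens.mem_iSup.1 (show x ∈ iSup V by rw [hV]; trivial)
  exact ⟨U ⊓ V i, ⟨i, inf_le_right⟩, ⟨hx, hi⟩, inf_le_left⟩

omit hZ [IsLocallyNoetherian X] in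
theorem image_preimage_of_le {W : X.Opens} (h : W ≤ V) : V.ι ''ᵁ V.ι ⁻¹ᵁ W = W := by
  rw [ZClos.ι_image_preimage, inf_eq_right.2 h]

omit hZ [IsLocallyNoetherian X] in
theorem pure_of_cover {ι : Type u} (V : ι → X.Opens) (hV : iSup V = ⊤)
    (h : ∀ i, Pure ((V i).ι.base ⁻¹' Z) ((Scheme.Modules.restrictFunctor (V i).ι).obj F)) : Pure Z F :=
  pure_of_basis Z F (fun W => ∃ i, W ≤ V i) (exists_nhd_le V hV) fun T W hW => by
    obtain ⟨i, hi⟩ := hW
    have := (res_inj_iff Z F (V i) T ((V i).ι ⁻¹ᵁ W)).1 (h i _ _)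
    rwa [image_preimage_of_le (V i) hi] at this

omit hZ [IsLocallyNoetherian X] in
theorem closd_of_cover {ι : Type u} (V : ι → X.Opens) (hV : iSup V = ⊤)
    (h : ∀ i, Closd ((V i).ι.base ⁻¹' Z) ((Scheme.Modules.restrictFunctor (V i).ι).obj F)) : Closd Z F :=
  closd_of_basis Z F (fun W => ∃ i, W ≤ V i) (exists_nhd_le V hV) fun T W hW => by
    obtain ⟨i, hi⟩ := hW
    have := (res_bij_iff Z F (V i) T ((V i).ι ⁻¹ᵁ W)).1 (h i _ _)
    rwa [image_preimage_of_le (V i) hi] at this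

end Groth.Agent.ZClos5
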