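import Groth.Agent.Lib.ZClos5.Sections
import Groth.Agent.Lib.GrpdB.Topology

/-!
# Sections supported in `Z`, and the universal property of the `Z`-closure
-/

set_option autoImplicit false
set_option backward.isDefEq.respectTransparency false

universe u

open CategoryTheory CategoryTheory.Limits AlgebraicGeometry TopologicalSpace Opposite

namespace Groth.Agent.ZClos5

open Groth.Agent Groth.Agent.M1

variable {X : Scheme.{u}}

theorem mres_inj_congr (F : X.Modules) {A B B' : X.Opens} (e : B = B') (h : B ≤ A) (h' : B' ≤ A) :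
    Function.Injective (mres F h) ↔ Function.Injective (mres F h') := by subst e; rfl

theorem mres_bij_congr (F : X.Modules) {A B B' : X.Opens} (e : B = B') (h : B ≤ A) (h' : B' ≤ A) :
    Function.Bijective (mres F h) ↔ Function.Bijective (mres F h') := by subst e; rfl

theorem mem_U {Z : Set X} {T : ZClos.Cl Z} {x : X} : x ∈ T.U ↔ x ∉ (T.1 : Set X) := Iff.rfl

variable [IsLocallyNoetherian X] (Z : Set X) (hZ : StableUnderSpecialization Z)
include hZ

/-- The closure of a relatively closed subset of `Z` in an open stays in `Z`. -/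
theorem closure_subset {O : X.Opens} {C : Set (O : Scheme.{u})} (hC : IsClosed C) (hsub : O.ι '' C ⊆ Z) :
    closure (O.ι '' C) ⊆ Z := fun _ hy => by
  obtain ⟨x, hx, hxy⟩ := GrpdB.exists_specializes_of_mem_closure_image O.ι hC hy
  exact hZ hxy (hsub ⟨x, hx, rfl⟩)

/-- A member of the index cutting out a relatively closed subset of `Z` in an open. -/
theorem exists_cl (O : X.Opens) (C : Set (O : Scheme.{u})) (hC : IsClosed C) (hsub : O.ι '' C ⊆ Z) :
    ∃ T : ZClos.Cl Z, (T.1 : Set X) = closure (O.ι '' C) :=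
  ⟨⟨⟨closure (O.ι '' C), isClosed_closure⟩, closure_subset Z hZ hC hsub⟩, rfl⟩

theorem exists_cl_of_isClosed (O : X.Opens) (S : Set X) (hS : IsClosed S) (hsub : S ∩ O ⊆ Z) :
    ∃ T : ZClos.Cl Z, S ∩ O ⊆ (T.1 : Set X) := by
  have h : O.ι '' (O.ι ⁻¹' S) = S ∩ O := by
    rw [Set.image_preimage_eq_inter_range, Scheme.Opens.range_ι]
  obtain ⟨T, hT⟩ := exists_cl Z hZ O _ (hS.preimage O.ι.continuous) (h.trans_subset hsub)
  exact ⟨T, fun x hx => hT ▸ subset_closure (h ▸ hx)⟩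

/-- A section with germs zero outside `Z` vanishes off a member of the index. -/
theorem exists_support (M : X.Modules) (V : X.Opens) (s : Γ(M, V))
    (hs : ∀ (x : X) (hx : x ∈ V), x ∉ Z → M.presheaf.germ V x hx s = 0) :
    ∃ T : ZClos.Cl Z, mres M (inf_le_left : V ⊓ T.U ≤ V) s = 0 := by
  let O : Set X := ⋃ W ∈ {W : X.Opens | ∃ h : W ≤ V, mres M h s = 0}, (W : Set X)
  have hO : IsOpen O := isOpen_biUnion fun W _ => W.2
  have hzero : ∀ (x : X) (hx : x ∈ V), M.presheaf.germ V x hx s = 0 → x ∈ O := fun x hx h => by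
    obtain ⟨W, hxW, i₁, i₂, he⟩ := M.presheaf.germ_eq x hx hx s 0 (h.trans (map_zero _).symm)
    rw [map_zero] at he
    exact Set.mem_biUnion (x := W) ⟨i₁.le, he⟩ hxW
  obtain ⟨T, hT⟩ := exists_cl_of_isClosed Z hZ V Oᶜ hO.isClosed_compl fun x hx => by
    by_contra hxZ
    exact hx.1 (hzero x hx.2 (hs x hx.2 hxZ))
  refine ⟨T, M1.modules_eq_of_locally_eq M _ (fun W : {W : X.Opens // ∃ h : W ≤ V, mres M h s = 0} => W.1 ⊓ T.U)
    (fun W => inf_le_inf_right _ W.2.1) (fun x hx => ?_) _ _ fun W => ?_⟩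
  · have hxO : x ∈ O := by
      by_contra h
      exact mem_U.1 hx.2 (hT ⟨h, hx.1⟩)
    obtain ⟨W, hW, hxW⟩ := Set.mem_iUnion₂.1 hxO
    exact Opens.mem_iSup.2 ⟨⟨W, hW⟩, hxW, hx.2⟩
  · obtain ⟨h, hW⟩ := W.2
    rw [map_zero, mres_mres, ← mres_mres M h inf_le_left, hW, map_zero]

omit hZ in
theorem germ_eq_zero_of_mres (M : X.Modules) {V W : X.Opens} (h : W ≤ V) (s : Γ(M, V)) (hs : mres M h s = 0)
    {x : X} (hx : x ∈ W) : M.presheaf.germ V x (h hx) s = 0 := by
  have h1 := congrArg (M.presheaf.germ W x hx) hs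
  rw [map_zero] at h1
  rwa [TopCat.Presheaf.germ_res_apply] at h1

omit hZ in
theorem ins_eq_zero {F : X.Modules} {T T' : ZClos.Cl Z} (h : T ≤ T') {V : X.Opens} (t : Γ(F, V ⊓ T.U))
    (ht : mres F (inf_le_inf_left V (ZClos.Cl.U_anti h)) t = 0) : ins Z F T V t = 0 := by
  rw [← ins_mono Z F h, ht, map_zero]

theorem ins_eq_zero_of_germ {F : X.Modules} (T : ZClos.Cl Z) (V : X.Opens) (t : Γ(F, V ⊓ T.U))
    (ht : ∀ (x : X) (hx : x ∈ V ⊓ T.U), x ∉ Z → F.presheaf.germ _ x hx t = 0) : ins Z F T V t = 0 := by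
  obtain ⟨T', hT'⟩ := exists_support Z hZ F (V ⊓ T.U) t ht
  refine ins_eq_zero Z (le_sup_left : T ≤ T ⊔ T') t ?_
  rw [← mres_mres F (inf_le_left : (V ⊓ T.U) ⊓ T'.U ≤ V ⊓ T.U)
    (le_inf (inf_le_inf_left V (ZClos.Cl.U_anti le_sup_left)) (inf_le_right.trans (ZClos.Cl.U_anti le_sup_right))),
    hT', map_zero]

omit hZ in
theorem not_mem_T {T : ZClos.Cl Z} {x : X} (hx : x ∉ Z) : x ∈ T.U := fun h => hx (T.2 h)

theorem bijective_rhoStalk (F : X.Modules) {x : X} (hx : x ∉ Z) : ZClos.IsZClosedAt Z F x := by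
  refine ⟨(injective_iff_map_eq_zero (ZClos.rhoStalk Z F x).hom).2 fun a ha => ?_, fun b => ?_⟩
  · obtain ⟨U, hxU, s, rfl⟩ := F.presheaf.exists_germ_eq a
    have h1 : ((ZClos.H0 Z).obj F).presheaf.germ U x hxU ((ZClos.rhoApp Z F).app U s) = 0 :=
      (TopCat.Presheaf.stalkFunctor_map_germ_apply U x hxU (ZClos.rhoApp Z F).mapPresheaf s).symm.trans ha
    obtain ⟨W, hxW, i₁, _, he⟩ := ((ZClos.H0 Z).obj F).presheaf.germ_eq x hxU hxU _ 0 (h1.trans (map_zero _).symm)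
    rw [map_zero] at he
    obtain ⟨V, hV, hxV, hVW⟩ := exists_compact_nhd W x hxW
    have h2 : (ZClos.rhoApp Z F).app V (mres F (hVW.trans i₁.le) s) = 0 := by
      rw [app_mres, ← mres_mres ((ZClos.H0 Z).obj F) i₁.le hVW]
      exact (congrArg (mres ((ZClos.H0 Z).obj F) hVW) he).trans (map_zero _)
    rw [rhoApp_eq Z F ⊥] at h2
    obtain ⟨T, _, hT⟩ := exists_of_ins_eq_zero Z F hV _ h2
    rw [mres_mres, mres_mres] at hT
    exact germ_eq_zero_of_mres F _ s hT (show x ∈ V ⊓ T.U from ⟨hxV, not_mem_T Z hx⟩)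
  · obtain ⟨U, hxU, s, rfl⟩ := ((ZClos.H0 Z).obj F).presheaf.exists_germ_eq b
    obtain ⟨V, hV, hxV, hVU⟩ := exists_compact_nhd U x hxU
    obtain ⟨T, t, ht⟩ := exists_ins Z F hV (mres _ hVU s)
    have hx' : x ∈ V ⊓ T.U := ⟨hxV, not_mem_T Z hx⟩
    refine ⟨F.presheaf.germ _ x hx' t, ?_⟩
    refine (TopCat.Presheaf.stalkFunctor_map_germ_apply _ x hx' (ZClos.rhoApp Z F).mapPresheaf t).trans ?_
    have h3 : (ZClos.rhoApp Z F).app (V ⊓ T.U) t = mres ((ZClos.H0 Z).obj F) inf_le_left (mres _ hVU s) := by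
      rw [← ht, mres_ins, rhoApp_eq Z F T]
    show ((ZClos.H0 Z).obj F).presheaf.germ (V ⊓ T.U) x hx' ((ZClos.rhoApp Z F).app (V ⊓ T.U) t) = _
    rw [h3, mres_mres]
    exact TopCat.Presheaf.germ_res_apply _ _ x hx' s

theorem isZClosed_H0 (F : X.Modules) : ZClos.IsZClosed Z ((ZClos.H0 Z).obj F) := by
  rw [isZClosed_iff]
  refine closd_of_compact Z _ fun T₀ V hV => ⟨(injective_iff_map_eq_zero _).2 fun s hs => ?_, fun s => ?_⟩
  · obtain ⟨T, t, hle, rfl⟩ := exists_ins_ge Z F hV T₀ s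
    have hs' : mres ((ZClos.H0 Z).obj F) inf_le_left (ins Z F T V t) = 0 := hs
    rw [mres_ins] at hs'
    have hV' : IsCompact ((V ⊓ T₀.U : X.Opens) : Set X) := by
      have h := (T₀.U.ι.isCompact_preimage hV).image T₀.U.ι.continuous
      rwa [TopologicalSpace.Opens.map_coe, Set.image_preimage_eq_inter_range, Scheme.Opens.range_ι] at h
    obtain ⟨T', hle', hT'⟩ := exists_of_ins_eq_zero Z F hV' _ hs'
    refine ins_eq_zero Z hle' t ?_
    rw [mres_mres] at hT'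
    rw [← mres_mres F (inf_le_inf (inf_le_left : V ⊓ T₀.U ≤ V) (ZClos.Cl.U_anti hle') :
        (V ⊓ T₀.U) ⊓ T'.U ≤ V ⊓ T.U)
      (le_inf (le_inf inf_le_left (inf_le_right.trans (ZClos.Cl.U_anti (hle.trans hle')))) inf_le_right :
        V ⊓ T'.U ≤ (V ⊓ T₀.U) ⊓ T'.U), hT', map_zero]
  · have hV' : IsCompact ((V ⊓ T₀.U : X.Opens) : Set X) := by
      have h := (T₀.U.ι.isCompact_preimage hV).image T₀.U.ι.continuous
      rwa [TopologicalSpace.Opens.map_coe, Set.image_preimage_eq_inter_range, Scheme.Opens.range_ι] at h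
    obtain ⟨T, t, hle, rfl⟩ := exists_ins_ge Z F hV' T₀ s
    have h : V ⊓ T.U ≤ (V ⊓ T₀.U) ⊓ T.U :=
      le_inf (le_inf inf_le_left (inf_le_right.trans (ZClos.Cl.U_anti hle))) inf_le_right
    refine ⟨ins Z F T V (mres F h t), ?_⟩
    show mres ((ZClos.H0 Z).obj F) inf_le_left (ins Z F T V (mres F h t)) = _
    rw [mres_ins, mres_mres, mres_id]

omit hZ in
theorem hom_eq_zero {F F' : X.Modules} (hF' : Pure Z F') (d : (ZClos.H0 Z).obj F ⟶ F')
    (hd : ZClos.rhoApp Z F ≫ d = 0) : d = 0 := by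
  ext V s
  show d.app V s = 0
  refine M1.modules_eq_of_locally_eq F' V (fun W : {W : X.Opens // IsCompact (W : Set X) ∧ W ≤ V} => W.1)
    (fun W => W.2.2) (fun x hx => ?_) _ _ fun W => ?_
  · obtain ⟨W, hW, hxW, hWV⟩ := exists_compact_nhd V x hx
    exact Opens.mem_iSup.2 ⟨⟨W, hW, hWV⟩, hxW⟩
  · rw [map_zero, ← app_mres]
    obtain ⟨T, t, ht⟩ := exists_ins Z F W.2.1 (mres _ W.2.2 s)
    rw [← ht]
    refine hF' T W.1 ?_
    show mres F' inf_le_left (d.app W.1 (ins Z F T W.1 t)) = res Z F' T W.1 0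
    rw [map_zero, ← app_mres, mres_ins, ← rhoApp_eq Z F T, ← comp_app_apply, hd]
    rfl

/-- Kernel of `H⁰(u)` for `u` injective on stalks outside `Z`. -/
theorem map_injective {F G : X.Modules} (u : F ⟶ G)
    (hu : ∀ x : X, x ∉ Z → Function.Injective ((TopCat.Presheaf.stalkFunctor (C := Ab.{u}) x).map u.mapPresheaf))
    {V : X.Opens} (hV : IsCompact (V : Set X)) : Function.Injective (((ZClos.H0 Z).map u).app V) := by
  refine (injective_iff_map_eq_zero _).2 fun s hs => ?_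
  obtain ⟨T, t, rfl⟩ := exists_ins Z F hV s
  rw [map_ins] at hs
  obtain ⟨T', hle, hT'⟩ := exists_of_ins_eq_zero Z G hV _ hs
  refine ins_eq_zero_of_germ Z hZ T V t fun x hx hxZ => hu x hxZ ?_
  refine (TopCat.Presheaf.stalkFunctor_map_germ_apply _ x hx u.mapPresheaf t).trans ?_
  rw [map_zero]
  exact germ_eq_zero_of_mres G _ (u.app (V ⊓ T.U) t) hT' ⟨hx.1, not_mem_T Z hxZ⟩

theorem isCompact_of_le {O V : X.Opens} (hV : IsCompact (V : Set X)) (h : O ≤ V) : IsCompact (O : Set X) := by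
  have h' := (O.ι.isCompact_preimage hV).image O.ι.continuous
  rwa [TopologicalSpace.Opens.map_coe, Set.image_preimage_eq_inter_range, Scheme.Opens.range_ι, Set.inter_eq_right.2 h] at h'

/-- `H⁰(u)` is an isomorphism when `u` is bijective on stalks outside `Z`. -/
theorem isIso_map {F G : X.Modules} (u : F ⟶ G)
    (hu : ∀ x : X, x ∉ Z → Function.Bijective ((TopCat.Presheaf.stalkFunctor (C := Ab.{u}) x).map u.mapPresheaf)) :
    IsIso ((ZClos.H0 Z).map u) := by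
  classical
  have hinj : ∀ V : X.Opens, IsCompact (V : Set X) → Function.Injective (((ZClos.H0 Z).map u).app V) :=
    fun V hV => map_injective Z hZ u (fun x hx => (hu x hx).1) hV
  haveI : Mono ((ZClos.H0 Z).map u) :=
    M1.mono_of_basis _ {W | IsAffineOpen W} X.isBasis_affineOpens fun V hV => hinj V hV.isCompact
  haveI : Epi ((ZClos.H0 Z).map u) := by
    rw [M1.epi_iff_locally_surjective]
    intro U s x hx
    obtain ⟨V, hV, hxV, hVU⟩ := exists_compact_nhd U x hx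
    obtain ⟨T, t', ht'⟩ := exists_ins Z G hV (mres _ hVU s)
    -- local lifts outside `Z`
    let S := {W : X.Opens // W ≤ V ⊓ T.U ∧ ∃ h : W ≤ V ⊓ T.U, ∃ a : Γ(F, W), u.app W a = mres G h t'}
    have hS : ∀ y ∈ V ⊓ T.U, y ∉ Z → ∃ W : S, y ∈ W.1 := fun y hy hyZ => by
      obtain ⟨b, hb⟩ := (hu y hyZ).2 (G.presheaf.germ _ y hy t')
      obtain ⟨W₀, hyW₀, a, rfl⟩ := F.presheaf.exists_germ_eq b
      have hb' : G.presheaf.germ W₀ y hyW₀ (u.app W₀ a) = G.presheaf.germ _ y hy t' :=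
        (TopCat.Presheaf.stalkFunctor_map_germ_apply _ y hyW₀ u.mapPresheaf a).symm.trans hb
      obtain ⟨W, hyW, i₁, i₂, he⟩ := G.presheaf.germ_eq y hyW₀ hy _ _ hb'
      exact ⟨⟨W, i₂.le, i₂.le, mres F i₁.le a, (app_mres u i₁.le a).trans he⟩, hyW⟩
    let O : X.Opens := ⨆ W : S, W.1
    have hO : IsCompact (O : Set X) := isCompact_of_le Z hZ hV (iSup_le fun W => W.2.1.trans inf_le_left)
    obtain ⟨fs, hfs⟩ := hO.elim_finite_subcover (fun W : S => (W.1 : Set X)) (fun W => W.1.2) fun y hy =>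
      Set.mem_iUnion.2 (Opens.mem_iSup.1 hy)
    choose hle a ha using fun W : S => W.2.2
    -- differences of lifts die off a member of the index
    have hd : ∀ W W' : S, ∃ T' : ZClos.Cl Z,
        mres F (inf_le_left : (W.1 ⊓ W'.1) ⊓ T'.U ≤ W.1 ⊓ W'.1)
          (mres F inf_le_left (a W) - mres F inf_le_right (a W')) = 0 := fun W W' => by
      refine exists_support Z hZ F _ _ fun y hy hyZ => (hu y hyZ).1 ?_
      refine (TopCat.Presheaf.stalkFunctor_map_germ_apply _ y hy u.mapPresheaf _).trans ?_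
      rw [map_zero]
      refine (congrArg (G.presheaf.germ _ y hy) ?_).trans (map_zero _)
      show u.app _ _ = 0
      rw [map_sub, app_mres, app_mres, ha, ha, mres_mres, mres_mres, sub_self]
    choose Td hTd using hd
    obtain ⟨T₁, hT₁⟩ := exists_cl_of_isClosed Z hZ (V ⊓ T.U) (O : Set X)ᶜ O.2.isClosed_compl fun y hy => by
      by_contra hyZ
      obtain ⟨W, hW⟩ := hS y hy.2 hyZ
      exact hy.1 (Opens.mem_iSup.2 ⟨W, hW⟩)
    let T₂ : ZClos.Cl Z := T ⊔ T₁ ⊔ (fs ×ˢ fs).sup fun p => Td p.1 p.2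
    have hT₂ : ∀ W ∈ fs, ∀ W' ∈ fs, T₂.U ≤ (Td W W').U := fun W hW W' hW' =>
      ZClos.Cl.U_anti ((Finset.le_sup (f := fun p : S × S => Td p.1 p.2)
        (Finset.mem_product.2 ⟨hW, hW'⟩ : (W, W') ∈ fs ×ˢ fs)).trans le_sup_right)
    obtain ⟨b, hb, -⟩ := TopCat.Sheaf.existsUnique_gluing' (F := ⟨_, F.isSheaf⟩)
      (fun W : {W // W ∈ fs} => (V ⊓ T₂.U) ⊓ W.1.1) (V ⊓ T₂.U) (fun W => homOfLE inf_le_left)
      (fun y hy => by
        have hyO : y ∈ (O : Set X) := by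
          by_contra h
          exact mem_U.1 hy.2 ((le_sup_right.trans le_sup_left : T₁ ≤ T₂)
            (hT₁ ⟨h, hy.1, ZClos.Cl.U_anti (le_sup_left.trans le_sup_left : T ≤ T₂) hy.2⟩))
        obtain ⟨W, hW, hyW⟩ := Set.mem_iUnion₂.1 (hfs hyO)
        exact Opens.mem_iSup.2 ⟨⟨W, hW⟩, hy, hyW⟩)
      (fun W => mres F inf_le_right (a W.1)) fun W W' => by
        show mres F inf_le_left (mres F inf_le_right (a W.1)) = mres F inf_le_right (mres F inf_le_right (a W'.1))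
        have hh : ((V ⊓ T₂.U) ⊓ W.1.1) ⊓ ((V ⊓ T₂.U) ⊓ W'.1.1) ≤ (W.1.1 ⊓ W'.1.1) ⊓ (Td W.1 W'.1).U :=
          le_inf (inf_le_inf inf_le_right inf_le_right)
            (inf_le_left.trans (inf_le_left.trans (inf_le_right.trans (hT₂ _ W.2 _ W'.2))))
        have h1 := congrArg (mres F hh) (hTd W.1 W'.1)
        rw [map_zero, map_sub, map_sub, sub_eq_zero] at h1
        simpa only [mres_mres] using h1
    refine ⟨V, hVU, hxV, ins Z F T₂ V b, ?_⟩
    show ((ZClos.H0 Z).map u).app V (ins Z F T₂ V b) = mres _ hVU s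
    rw [map_ins, ← ht', ← ins_mono Z G (le_sup_left.trans le_sup_left : T ≤ T₂) V t']
    congr 1
    refine M1.modules_eq_of_locally_eq G _ (fun W : {W // W ∈ fs} => (V ⊓ T₂.U) ⊓ W.1.1) (fun W => inf_le_left)
      (fun y hy => ?_) _ _ fun W => ?_
    · have hyO : y ∈ (O : Set X) := by
        by_contra h
        exact mem_U.1 hy.2 ((le_sup_right.trans le_sup_left : T₁ ≤ T₂)
          (hT₁ ⟨h, hy.1, ZClos.Cl.U_anti (le_sup_left.trans le_sup_left : T ≤ T₂) hy.2⟩))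
      obtain ⟨W, hW, hyW⟩ := Set.mem_iUnion₂.1 (hfs hyO)
      exact Opens.mem_iSup.2 ⟨⟨W, hW⟩, hy, hyW⟩
    · rw [← app_mres]
      refine (congrArg (u.app _) (hb W)).trans ?_
      show u.app _ (mres F inf_le_right (a W.1)) = _
      rw [app_mres, ha, mres_mres, mres_mres]
  exact isIso_of_mono_of_epi _

end Groth.Agent.ZClos5
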